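import Mathlib

/-!
# Linear algebra over the field with three elements for a cubic element

* simultaneous eigenvectors with distinct eigencharacters are independent;
* elements of prime order on small spaces;
* the weights of a four-group permuted by `b`, compared with the image of `b - 1`.
-/

set_option autoImplicit false
set_option linter.style.haveILetI false

namespace CfsgLib.FGS74.Cubic

open Module (finrank)

section Eigen

theorem linearIndependent_of_joint_eigen {K V ι α : Type*} [Field K] [AddCommGroup V] [Module K V]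
    (f : α → V →ₗ[K] V) (v : ι → V) (c : α → ι → K) (hv : ∀ i, v i ≠ 0)
    (he : ∀ a i, f a (v i) = c a i • v i) (hd : ∀ i j, i ≠ j → ∃ a, c a i ≠ c a j) :
    LinearIndependent K v := by
  classical
  rw [linearIndependent_iff']
  intro s
  induction s using Finset.induction with
  | empty => simp
  | insert j s hj ih =>
    intro g hg
    have hs : ∀ i ∈ s, g i = 0 := by
      intro i hi
      have hne : i ≠ j := fun e => hj (e ▸ hi)
      obtain ⟨a, ha⟩ := hd i j hne
      have h1 : ∑ k ∈ insert j s, (g k * (c a k - c a j)) • v k = 0 := by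
        have h2 := congrArg (f a) hg
        simp only [map_sum, map_smul, map_zero, he] at h2
        have h3 := congrArg (fun x => c a j • x) hg
        simp only [Finset.smul_sum, smul_zero] at h3
        calc _ = (∑ k ∈ insert j s, g k • c a k • v k) - ∑ k ∈ insert j s, c a j • g k • v k := by
              rw [← Finset.sum_sub_distrib]
              refine Finset.sum_congr rfl fun k _ => ?_
              rw [smul_smul, smul_smul, ← sub_smul]; congr 1; ring
          _ = 0 := by rw [h2, h3, sub_zero]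
      rw [Finset.sum_insert hj] at h1
      simp only [sub_self, mul_zero, zero_smul, zero_add] at h1
      have := ih (fun k => g k * (c a k - c a j)) h1 i hi
      exact (mul_eq_zero.1 this).resolve_right (sub_ne_zero.2 ha)
    intro i hi
    rcases Finset.mem_insert.1 hi with rfl | hi
    · rw [Finset.sum_insert hj, Finset.sum_eq_zero (fun k hk => by rw [hs k hk, zero_smul]),
        add_zero] at hg
      exact (smul_eq_zero.1 hg).resolve_right (hv i)
    · exact hs i hi

end Eigen

variable {V : Type*} [AddCommGroup V] [Module (ZMod 3) V]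

theorem add_self (y : V) : y + y = -y := by
  have h : (3 : ZMod 3) • y = 0 := by rw [show (3 : ZMod 3) = 0 by decide, zero_smul]
  rw [show (3 : ZMod 3) = 1 + 1 + 1 by decide, add_smul, add_smul, one_smul] at h
  exact eq_neg_of_add_eq_zero_left h

theorem eq_zero_of_neg {y : V} (h : -y = y) : y = 0 := by
  have h1 := add_self y
  rw [h] at h1
  exact add_eq_right.1 h1

theorem eq_zero_of_add_self {y : V} (h : y + y = 0) : y = 0 :=
  neg_eq_zero.1 ((add_self y).symm.trans h)

theorem scalar_cases (c : ZMod 3) : c = 0 ∨ c = 1 ∨ c = -1 := by revert c; decide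

theorem smul_cases {c : ZMod 3} {y : V} (h : c • y ≠ 0) : c • y = y ∨ c • y = -y := by
  rcases scalar_cases c with rfl | rfl | rfl
  · simp at h
  · exact Or.inl (one_smul _ _)
  · exact Or.inr (by rw [neg_smul, one_smul])

section Group

variable {G : Type*} [Group G] (σ : G →* Module.End (ZMod 3) V)

theorem mul_apply (g h : G) (y : V) : σ (g * h) y = σ g (σ h y) := by rw [map_mul]; rfl

theorem one_apply (y : V) : σ 1 y = y := by rw [map_one]; rfl

theorem inv_apply_apply (g : G) (y : V) : σ g⁻¹ (σ g y) = y := by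
  rw [← mul_apply, inv_mul_cancel, one_apply]

theorem apply_inv_apply (g : G) (y : V) : σ g (σ g⁻¹ y) = y := by
  rw [← mul_apply, mul_inv_cancel, one_apply]

theorem apply_injective (g : G) : Function.Injective (σ g) :=
  Function.LeftInverse.injective (inv_apply_apply σ g)

theorem pow_fixes {g : G} {y : V} (h : σ g y = y) : ∀ n : ℕ, σ (g ^ n) y = y := by
  intro n
  induction n with
  | zero => rw [pow_zero, one_apply]
  | succ n ih => rw [pow_succ, mul_apply, h, ih]

theorem zpow_fixes {g : G} {y : V} (h : σ g y = y) {z : G} (hz : z ∈ Subgroup.zpowers g)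
    [Finite G] : σ z y = y := by
  obtain ⟨n, rfl⟩ := (mem_powers_iff_mem_zpowers.2 hz : z ∈ Submonoid.powers g)
  exact pow_fixes σ h n

/-- The fixed points of `g`. -/
def fix (g : G) : Submodule (ZMod 3) V := LinearMap.ker (σ g - 1)

theorem mem_fix {g : G} {y : V} : y ∈ fix σ g ↔ σ g y = y := by
  simp [fix, sub_eq_zero]

/-- The image of `g - 1`. -/
def comm (g : G) : Submodule (ZMod 3) V := LinearMap.range (σ g - 1)

theorem sub_mem_comm (g : G) (y : V) : σ g y - y ∈ comm σ g := ⟨y, by simp⟩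

theorem mem_comm {g : G} {y : V} : y ∈ comm σ g ↔ ∃ z, σ g z - z = y := by
  simp [comm, LinearMap.mem_range]

/-- An element of prime order `q` congruence for its fixed points on an invariant subspace. -/
theorem modEq_fixed [Finite V] {x : G} {q : ℕ} [Fact q.Prime] (hx : x ^ q = 1)
    (M : Submodule (ZMod 3) V) (hM : ∀ y ∈ M, σ x y ∈ M) :
    3 ^ finrank (ZMod 3) M ≡ 3 ^ finrank (ZMod 3) ↥(M ⊓ fix σ x) [MOD q] := by
  let H : Subgroup G := Subgroup.zpowers x
  have hord : orderOf x ∣ q := orderOf_dvd_of_pow_eq_one hx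
  have hH : IsPGroup q H := by
    rintro ⟨y, hy⟩
    obtain ⟨n, rfl⟩ := Subgroup.mem_zpowers_iff.1 hy
    refine ⟨1, Subtype.ext ?_⟩
    show (x ^ n) ^ (q ^ 1) = 1
    rw [pow_one, ← zpow_natCast, ← zpow_mul, mul_comm, zpow_mul, zpow_natCast, hx, one_zpow]
  have hfin : IsOfFinOrder x := isOfFinOrder_iff_pow_eq_one.2 ⟨q, (Fact.out : q.Prime).pos, hx⟩
  have hinv : ∀ h ∈ H, ∀ y ∈ M, σ h y ∈ M := by
    intro h hh
    obtain ⟨n, rfl⟩ := (hfin.mem_powers_iff_mem_zpowers.2 hh : h ∈ Submonoid.powers x)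
    induction n with
    | zero => intro y hy; simpa [one_apply] using hy
    | succ n ih =>
      intro y hy
      show σ (x ^ (n + 1)) y ∈ M
      rw [pow_succ, mul_apply]
      exact ih (Subgroup.pow_mem _ (Subgroup.mem_zpowers x) _) _ (hM y hy)
  letI : MulAction H M :=
    { smul := fun h y => ⟨σ (h : G) (y : V), hinv h h.2 y y.2⟩
      one_smul := fun y => Subtype.ext (one_apply σ (y : V))
      mul_smul := fun g h y => Subtype.ext (mul_apply σ (g : G) (h : G) (y : V)) }
  have h := hH.card_modEq_card_fixedPoints M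
  have e : Nat.card (MulAction.fixedPoints H M) = Nat.card ↥(M ⊓ fix σ x) := by
    refine Nat.card_congr
      { toFun := fun y => ⟨(y.1 : V), y.1.2, (mem_fix σ).2
          (congrArg Subtype.val (y.2 ⟨x, Subgroup.mem_zpowers x⟩))⟩
        invFun := fun y => ⟨⟨(y : V), y.2.1⟩, fun h => Subtype.ext ?_⟩
        left_inv := fun y => rfl
        right_inv := fun y => rfl }
    obtain ⟨n, hn⟩ := (hfin.mem_powers_iff_mem_zpowers.2 h.2 : (h : G) ∈ Submonoid.powers x)
    show σ (h : G) (y : V) = (y : V)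
    rw [← hn]
    exact pow_fixes σ ((mem_fix σ).1 y.2.2) n
  rw [e, Module.natCard_eq_pow_finrank (K := ZMod 3) (V := M),
    Module.natCard_eq_pow_finrank (K := ZMod 3) (V := ↥(M ⊓ fix σ x)), Nat.card_zmod] at h
  exact h

/-- An element of prime order at least five fixes every invariant subspace of dimension two. -/
theorem small_fixed [Finite V] {x : G} {q : ℕ} [Fact q.Prime] (hq : 5 ≤ q) (hx : x ^ q = 1)
    (M : Submodule (ZMod 3) V) (hM : ∀ y ∈ M, σ x y ∈ M) (h2 : finrank (ZMod 3) M ≤ 2)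
    {y : V} (hy : y ∈ M) : σ x y = y := by
  have h := modEq_fixed σ hx M hM
  have hle : finrank (ZMod 3) ↥(M ⊓ fix σ x) ≤ finrank (ZMod 3) M :=
    Submodule.finrank_mono inf_le_left
  have heq : finrank (ZMod 3) ↥(M ⊓ fix σ x) = finrank (ZMod 3) M := by
    by_contra hne
    have h' := (Nat.modEq_iff_dvd' (Nat.pow_le_pow_right (by norm_num) hle)).1 h.symm
    have hqp : q.Prime := Fact.out
    generalize finrank (ZMod 3) M = a at *
    generalize finrank (ZMod 3) ↥(M ⊓ fix σ x) = j at *
    interval_cases a <;> interval_cases j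
    all_goals first
      | omega
      | (have := Nat.le_of_dvd (by norm_num) h'; norm_num at this; interval_cases q <;>
          first | omega | (norm_num at h'; done) | (norm_num at hqp; done))
  have hMle := Submodule.eq_of_le_of_finrank_eq inf_le_left heq
  rw [← hMle] at hy
  exact (mem_fix σ).1 hy.2

/-- A unipotent-looking element of order prime to three is trivial. -/
theorem fixed_of_sub_fixed {x : G} {q : ℕ} (hq : (q : ZMod 3) ≠ 0) (hx : x ^ q = 1) {y : V}
    (h : σ x (σ x y - y) = σ x y - y) : σ x y = y := by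
  have key : ∀ n : ℕ, σ (x ^ n) y = y + (n : ZMod 3) • (σ x y - y) := by
    intro n
    induction n with
    | zero => simp
    | succ n ih =>
      rw [pow_succ', mul_apply, ih, map_add, map_smul, h, Nat.cast_succ, add_smul, one_smul]
      abel
  have := key q
  rw [hx, one_apply, eq_comm, add_eq_left, smul_eq_zero] at this
  exact sub_eq_zero.1 (this.resolve_left hq)

end Group

section FourAct

variable {G : Type*} [Group G]

/-- `u`, `v` generate a four-group whose involutions are permuted cyclically by `b`. -/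
structure FourAct (b u v : G) : Prop where
  uu : u * u = 1
  comm : u * v = v * u
  bu : b * u * b⁻¹ = v
  bv : b * v * b⁻¹ = u * v

namespace FourAct

variable {b u v : G} (hF : FourAct b u v)
include hF

theorem vv : v * v = 1 := by
  rw [← hF.bu]
  calc b * u * b⁻¹ * (b * u * b⁻¹) = b * (u * u) * b⁻¹ := by group
    _ = 1 := by rw [hF.uu, mul_one, mul_inv_cancel]

theorem mul_bu : b * u = v * b := by rw [← hF.bu]; group

theorem mul_bv : b * v = u * v * b := by rw [← hF.bv]; group

theorem mul_buv : b * (u * v) = u * b := by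
  calc b * (u * v) = v * b * v := by rw [← mul_assoc, hF.mul_bu]
    _ = v * (u * v) * b := by rw [mul_assoc, hF.mul_bv]; group
    _ = u * b := by rw [← mul_assoc, ← hF.comm, mul_assoc u v v, hF.vv, mul_one]

variable (σ : G →* Module.End (ZMod 3) V)

/-- The weight space of `u` fixed, `v` negated. -/
def W (_h : FourAct b u v) (σ : G →* Module.End (ZMod 3) V) : Submodule (ZMod 3) V :=
  LinearMap.ker (σ u - 1) ⊓ LinearMap.ker (σ v + 1)

/-- The fixed points of the four-group. -/
def C (_h : FourAct b u v) (σ : G →* Module.End (ZMod 3) V) : Submodule (ZMod 3) V :=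
  fix σ u ⊓ fix σ v

theorem mem_W {y : V} : y ∈ hF.W σ ↔ σ u y = y ∧ σ v y = -y := by
  simp [W, sub_eq_zero, add_eq_zero_iff_eq_neg]

theorem mem_C {y : V} : y ∈ hF.C σ ↔ σ u y = y ∧ σ v y = y := by
  simp [C, mem_fix]

theorem u_b {y : V} (hy : y ∈ hF.W σ) : σ u (σ b y) = -(σ b y) ∧ σ v (σ b y) = σ b y := by
  obtain ⟨h1, h2⟩ := (hF.mem_W σ).1 hy
  constructor
  · rw [← mul_apply, ← hF.mul_buv, mul_apply, mul_apply, h2, map_neg, h1, map_neg]
  · rw [← mul_apply, ← hF.mul_bu, mul_apply, h1]

theorem u_bb {y : V} (hy : y ∈ hF.W σ) :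
    σ u (σ b (σ b y)) = -(σ b (σ b y)) ∧ σ v (σ b (σ b y)) = -(σ b (σ b y)) := by
  obtain ⟨h1, h2⟩ := hF.u_b σ hy
  constructor
  · rw [← mul_apply, ← hF.mul_buv, mul_apply, mul_apply, h2, h1, map_neg]
  · rw [← mul_apply, ← hF.mul_bu, mul_apply, h1, map_neg]

theorem b_mem_C {y : V} (hy : y ∈ hF.C σ) : σ b y ∈ hF.C σ := by
  obtain ⟨h1, h2⟩ := (hF.mem_C σ).1 hy
  rw [mem_C]
  constructor
  · rw [← mul_apply, ← hF.mul_buv, mul_apply, mul_apply, h2, h1]
  · rw [← mul_apply, ← hF.mul_bu, mul_apply, h1]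

theorem u_comm_v (y : V) : σ u (σ v y) = σ v (σ u y) := by
  rw [← mul_apply, hF.comm, mul_apply]

theorem u_u (y : V) : σ u (σ u y) = y := by rw [← mul_apply, hF.uu, one_apply]

theorem v_v (y : V) : σ v (σ v y) = y := by rw [← mul_apply, hF.vv, one_apply]

theorem pull_u (y : V) : σ u (σ b⁻¹ y) = σ b⁻¹ (σ v y) := by
  apply apply_injective σ b
  rw [← mul_apply σ b u, hF.mul_bu, mul_apply, apply_inv_apply, apply_inv_apply]

theorem pull_v (y : V) : σ v (σ b⁻¹ y) = σ b⁻¹ (σ u (σ v y)) := by
  apply apply_injective σ b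
  rw [← mul_apply σ b v, hF.mul_bv, mul_apply, mul_apply, apply_inv_apply, apply_inv_apply]

/-- The parts of a vector negated by `u`. -/
theorem comm_u_le : Cubic.comm σ u ≤ (hF.W σ).map (σ b) ⊔ (hF.W σ).map (σ b * σ b) := by
  intro y hy
  obtain ⟨z, rfl⟩ := (mem_comm σ).1 hy
  set y := σ u z - z with hy'
  have hu : σ u y = -y := by rw [hy', map_sub, hF.u_u, neg_sub]
  have huv : σ u (σ v y) = -(σ v y) := by rw [hF.u_comm_v, hu, map_neg]
  have e : y = -((y + σ v y) + (y - σ v y)) := by
    rw [show y + σ v y + (y - σ v y) = y + y by abel, add_self, neg_neg]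
  rw [e]
  refine neg_mem (add_mem (Submodule.mem_sup_left ?_) (Submodule.mem_sup_right ?_))
  · set t := y + σ v y with ht
    have t1 : σ u t = -t := by rw [ht, map_add, hu, huv]; abel
    have t2 : σ v t = t := by rw [ht, map_add, hF.v_v, add_comm]
    refine ⟨σ b⁻¹ t, (hF.mem_W σ).2 ⟨?_, ?_⟩, apply_inv_apply σ b _⟩
    · rw [hF.pull_u, t2]
    · rw [hF.pull_v, t2, t1, map_neg]
  · set t := y - σ v y with ht
    have t1 : σ u t = -t := by rw [ht, map_sub, hu, huv]; abel
    have t2 : σ v t = -t := by rw [ht, map_sub, hF.v_v, neg_sub]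
    have s1 : σ u (σ b⁻¹ t) = -(σ b⁻¹ t) := by rw [hF.pull_u, t2, map_neg]
    have s2 : σ v (σ b⁻¹ t) = σ b⁻¹ t := by rw [hF.pull_v, t2, map_neg, t1, neg_neg]
    refine ⟨σ b⁻¹ (σ b⁻¹ t), (hF.mem_W σ).2 ⟨?_, ?_⟩, ?_⟩
    · rw [hF.pull_u, s2]
    · rw [hF.pull_v, s2, s1, map_neg]
    · show σ b (σ b _) = _
      rw [apply_inv_apply, apply_inv_apply]

theorem sub_mem_W {y : V} (hy : σ u y = y) : σ v y - y ∈ hF.W σ := by
  rw [mem_W, map_sub, map_sub, hF.v_v, hF.u_comm_v, hy]
  exact ⟨rfl, (neg_sub _ _).symm⟩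

theorem fix_u_le : fix σ u ≤ hF.C σ ⊔ hF.W σ := by
  intro y hy
  rw [mem_fix] at hy
  have e : y = -((y + σ v y) + (y - σ v y)) := by
    rw [show y + σ v y + (y - σ v y) = y + y by abel, add_self, neg_neg]
  rw [e]
  refine neg_mem (add_mem (Submodule.mem_sup_left ?_) (Submodule.mem_sup_right ?_))
  · rw [mem_C, map_add, map_add, hF.v_v, hF.u_comm_v, hy]
    exact ⟨rfl, add_comm _ _⟩
  · rw [← neg_sub]
    exact neg_mem (hF.sub_mem_W σ hy)

theorem decompose : ⊤ ≤ hF.C σ ⊔ hF.W σ ⊔ (hF.W σ).map (σ b) ⊔ (hF.W σ).map (σ b * σ b) := by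
  intro y _
  have e : y = -((y + σ u y) + (y - σ u y)) := by
    rw [show y + σ u y + (y - σ u y) = y + y by abel, add_self, neg_neg]
  rw [e, sup_assoc]
  refine neg_mem (add_mem (Submodule.mem_sup_left (hF.fix_u_le σ ?_)) (Submodule.mem_sup_right ?_))
  · rw [mem_fix, map_add, hF.u_u, add_comm]
  · rw [← neg_sub]
    exact neg_mem (hF.comm_u_le σ (sub_mem_comm σ u y))

theorem u_trivial (h : hF.W σ = ⊥) : σ u = 1 := by
  ext y
  have := hF.comm_u_le σ (sub_mem_comm σ u y)
  simp only [h, Submodule.map_bot, sup_bot_eq, Submodule.mem_bot, sub_eq_zero] at this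
  exact this

/-- `(y, z) ↦ (b - 1) y + (b - 1) b z` on a weight space. -/
def toRange : (hF.W σ × hF.W σ) →ₗ[ZMod 3] ↥(Cubic.comm σ b) where
  toFun p := ⟨(σ b p.1 - (p.1 : V)) + (σ b (σ b p.2) - σ b (p.2 : V)),
    add_mem (sub_mem_comm σ b _) (sub_mem_comm σ b _)⟩
  map_add' p p' := Subtype.ext (by
    simp only [Prod.fst_add, Prod.snd_add, Submodule.coe_add, map_add]; abel)
  map_smul' c p := Subtype.ext (by
    simp only [Prod.smul_fst, Prod.smul_snd, Submodule.coe_smul, map_smul, RingHom.id_apply,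
      smul_add, smul_sub])

theorem toRange_u (p : hF.W σ × hF.W σ) :
    σ u (hF.toRange σ p : V) + (hF.toRange σ p : V) = -((p.1 : V) + (p.1 : V)) := by
  show σ u ((σ b p.1 - (p.1 : V)) + (σ b (σ b p.2) - σ b (p.2 : V))) +
    ((σ b p.1 - (p.1 : V)) + (σ b (σ b p.2) - σ b (p.2 : V))) = _
  simp only [map_add, map_sub, (hF.u_b σ p.1.2).1, (hF.u_b σ p.2.2).1, (hF.u_bb σ p.2.2).1,
    ((hF.mem_W σ).1 p.1.2).1]
  abel

theorem toRange_injective : Function.Injective (hF.toRange σ) := by
  rw [injective_iff_map_eq_zero]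
  rintro ⟨y, z⟩ h
  have h1 := hF.toRange_u σ (y, z)
  rw [h, ZeroMemClass.coe_zero, map_zero, zero_add, add_self, neg_neg] at h1
  have hy : (y : V) = 0 := h1.symm
  have h2 : σ b (σ b (z : V)) = σ b (z : V) := by
    have := congrArg Subtype.val h
    change (σ b (y : V) - (y : V)) + (σ b (σ b (z : V)) - σ b (z : V)) = 0 at this
    rw [hy, map_zero, sub_zero, zero_add, sub_eq_zero] at this
    exact this
  have h3 := congrArg (σ v) h2
  rw [(hF.u_bb σ z.2).2, (hF.u_b σ z.2).2, h2] at h3
  have h4 : σ b (z : V) = 0 := eq_zero_of_neg h3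
  exact Prod.ext (Subtype.ext hy)
    (Subtype.ext (apply_injective σ b (h4.trans (map_zero _).symm)))

/-- If the image of `b - 1` has dimension at most two, the weight space is at most a line. -/
theorem finrank_W [Finite V] (hD : finrank (ZMod 3) ↥(Cubic.comm σ b) ≤ 2) :
    finrank (ZMod 3) ↥(hF.W σ) ≤ 1 := by
  have := LinearMap.finrank_le_finrank_of_injective (hF.toRange_injective σ)
  rw [Module.finrank_prod] at this
  omega

theorem toRange_surjective [Finite V] (hD : finrank (ZMod 3) ↥(Cubic.comm σ b) ≤ 2)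
    (hW : hF.W σ ≠ ⊥) : Function.Surjective (hF.toRange σ) := by
  have h1 : 1 ≤ finrank (ZMod 3) ↥(hF.W σ) := Submodule.one_le_finrank_iff.2 hW
  have h2 := LinearMap.finrank_le_finrank_of_injective (hF.toRange_injective σ)
  have h3 : finrank (ZMod 3) (hF.W σ × hF.W σ) = finrank (ZMod 3) ↥(Cubic.comm σ b) := by
    rw [Module.finrank_prod] at h2 ⊢
    omega
  exact (LinearMap.injective_iff_surjective_of_finrank_eq_finrank h3).1 (hF.toRange_injective σ)

theorem comm_b_le [Finite V] (hD : finrank (ZMod 3) ↥(Cubic.comm σ b) ≤ 2)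
    (hW : hF.W σ ≠ ⊥) :
    Cubic.comm σ b ≤ hF.W σ ⊔ (hF.W σ).map (σ b) ⊔ (hF.W σ).map (σ b * σ b) := by
  intro y hy
  obtain ⟨p, hp⟩ := hF.toRange_surjective σ hD hW ⟨y, hy⟩
  have hp' := congrArg Subtype.val hp
  change _ = y at hp'
  rw [← hp']
  exact add_mem (sub_mem (Submodule.mem_sup_left (Submodule.mem_sup_right
      (Submodule.mem_map_of_mem p.1.2))) (Submodule.mem_sup_left (Submodule.mem_sup_left p.1.2)))
    (sub_mem (Submodule.mem_sup_right ⟨_, p.2.2, rfl⟩)
      (Submodule.mem_sup_left (Submodule.mem_sup_right (Submodule.mem_map_of_mem p.2.2))))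

/-- `b` centralises the fixed points of the four-group. -/
theorem b_fixes_C [Finite V] (hD : finrank (ZMod 3) ↥(Cubic.comm σ b) ≤ 2) (hW : hF.W σ ≠ ⊥)
    {y : V} (hy : y ∈ hF.C σ) : σ b y = y := by
  obtain ⟨⟨p, q⟩, hp⟩ := hF.toRange_surjective σ hD hW ⟨_, sub_mem_comm σ b y⟩
  have hs : (hF.toRange σ (p, q) : V) = σ b y - y := congrArg Subtype.val hp
  obtain ⟨h1, h2⟩ := (hF.mem_C σ).1 (sub_mem (hF.b_mem_C σ hy) hy)
  have h3 := hF.toRange_u σ (p, q)
  rw [hs, h1, add_self, add_self, neg_neg] at h3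
  have h4 : σ v (σ b y - y) = -(σ b y - y) := by
    have hp2 : σ b y - y = -(p : V) := by rw [← h3, neg_neg]
    rw [hp2, map_neg, ((hF.mem_W σ).1 p.2).2]
  rw [h2] at h4
  exact sub_eq_zero.1 (eq_zero_of_neg h4.symm)

end FourAct

end FourAct

end CfsgLib.FGS74.Cubic
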