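import Mathlib
import Cfsg.Prelude.Def_Solvable
import Cfsg.Agent.FGS74.Cubic.Linear
import Cfsg.Agent.Coprime.Generation
import Cfsg.Agent.Solvable.Fitting
import Cfsg.Agent.HallHigman.MinimalAction

/-!
# A cubic element of order three acting on a soluble `3'`-group on a space over three elements

The hypotheses (`Data`), the decomposition into the commutator space `F₀` and the fixed space
`F₁`, irreducibility and faithfulness on `F₀`, and the triviality of normal subgroups of odd order.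
-/

set_option autoImplicit false
set_option linter.style.haveILetI false
set_option linter.unusedSectionVars false
set_option linter.unusedTactic false

namespace CfsgLib.FGS74.Cubic

open Module (finrank)
open Subgroup (zpowers)

variable {S : Type*} [Group S] [Finite S] {E : Type*} [AddCommGroup E] [Module (ZMod 3) E]
  [Finite E]

/-- The standing hypotheses. -/
structure Data (σ : S →* Module.End (ZMod 3) E) (R : Subgroup S) (b u v : S) : Prop where
  faith : Function.Injective σ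
  solv : Group.IsSolvable R
  b3 : b ^ 3 = 1
  hbR : ∀ r ∈ R, b * r * b⁻¹ ∈ R
  cop : (Nat.card R).Coprime 3
  gen : R ≤ Subgroup.closure {x | ∃ r ∈ R, r * b * r⁻¹ = x}
  four : FourAct b u v
  uR : u ∈ R
  u1 : u ≠ 1
  rank : finrank (ZMod 3) ↥(comm σ b) ≤ 2
  cubic : ∃ y, σ b (σ b y - y) - (σ b y - y) ≠ 0

/-- The commutator space of `R`. -/
def commR (σ : S →* Module.End (ZMod 3) E) (R : Subgroup S) : Submodule (ZMod 3) E :=
  ⨆ r : R, comm σ (r : S)

/-- The fixed space of `R`. -/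
def fixR (σ : S →* Module.End (ZMod 3) E) (R : Subgroup S) : Submodule (ZMod 3) E :=
  ⨅ r : R, fix σ (r : S)

variable {σ : S →* Module.End (ZMod 3) E} {R : Subgroup S} {b u v : S}

omit [Finite S] [Finite E] in
theorem mem_fixR {y : E} : y ∈ fixR σ R ↔ ∀ r ∈ R, σ r y = y := by
  simp [fixR, mem_fix]

omit [Finite S] [Finite E] in
theorem sub_mem_commR {r : S} (hr : r ∈ R) (y : E) : σ r y - y ∈ commR σ R :=
  (le_iSup (fun r : R => comm σ (r : S)) ⟨r, hr⟩) (sub_mem_comm σ r y)

omit [Finite S] [Finite E] in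
theorem commR_le {N : Submodule (ZMod 3) E} (h : ∀ r ∈ R, ∀ y, σ r y - y ∈ N) :
    commR σ R ≤ N :=
  iSup_le fun r => by
    intro z hz
    obtain ⟨y, rfl⟩ := (mem_comm σ).1 hz
    exact h r r.2 y

omit [Finite S] [Finite E] in
theorem normalize_commR {g : S} (hg : ∀ r ∈ R, g * r * g⁻¹ ∈ R) {y : E}
    (hy : y ∈ commR σ R) : σ g y ∈ commR σ R := by
  refine (show commR σ R ≤ (commR σ R).comap (σ g) from iSup_le fun r z hz => ?_) hy
  obtain ⟨w, rfl⟩ := (mem_comm σ).1 hz
  rw [Submodule.mem_comap, map_sub]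
  have := sub_mem_commR (σ := σ) (hg r r.2) (σ g w)
  rwa [← mul_apply, inv_mul_cancel_right, mul_apply] at this

omit [Finite S] in
theorem FourAct.W_ne_bot (hF : FourAct b u v) (hf : Function.Injective σ) (hu1 : u ≠ 1) :
    hF.W σ ≠ ⊥ := fun h => hu1 (hf (by rw [hF.u_trivial σ h, map_one]))

omit [Finite S] [Finite E] in
theorem FourAct.shift (hF : FourAct b u v) : FourAct b v (u * v) where
  uu := hF.vv
  comm := by rw [← mul_assoc, ← hF.comm]
  bu := hF.bv
  bv := by rw [← mul_assoc v u v, ← hF.comm, mul_assoc u v v, hF.vv, mul_one, hF.mul_buv,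
    mul_inv_cancel_right]

omit [Finite S] [Finite E] in
theorem FourAct.v_ne_one (hF : FourAct b u v) (hu1 : u ≠ 1) : v ≠ 1 := fun h => hu1 (by
  have := hF.bu
  rw [h] at this
  calc u = b⁻¹ * (b * u * b⁻¹) * b := by group
    _ = 1 := by rw [this]; group)

omit [Finite S] [Finite E] in
theorem FourAct.ne_uv (hF : FourAct b u v) (hu1 : u ≠ 1) : u ≠ v := fun h => hF.v_ne_one hu1 (by
  have h1 := hF.bu
  have h2 := hF.bv
  rw [← h] at h1 h2
  rw [h1, hF.uu] at h2
  exact absurd h2 hu1)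

/-- The four-group of a `FourAct`. -/
def FourAct.grp (hF : FourAct b u v) : Subgroup S where
  carrier := {x | x = 1 ∨ x = u ∨ x = v ∨ x = u * v}
  one_mem' := Or.inl rfl
  mul_mem' := by
    have h1 : v * u = u * v := hF.comm.symm
    have h2 : u * (u * v) = v := by rw [← mul_assoc, hF.uu, one_mul]
    have h3 : u * v * u = v := by rw [hF.comm, mul_assoc, hF.uu, mul_one]
    have h4 : v * (u * v) = u := by rw [← mul_assoc, h1, mul_assoc, hF.vv, mul_one]
    have h5 : u * v * v = u := by rw [mul_assoc, hF.vv, mul_one]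
    have h6 : u * v * (u * v) = 1 := by rw [← mul_assoc, h3, hF.vv]
    rintro _ _ (rfl | rfl | rfl | rfl) (rfl | rfl | rfl | rfl) <;>
      simp only [one_mul, mul_one, h1, h2, h3, h4, h5, h6, hF.uu, hF.vv, Set.mem_ofPred_eq,
        true_or, or_true]
  inv_mem' := by
    have h6 : (u * v)⁻¹ = u * v := by
      rw [mul_inv_rev, inv_eq_of_mul_eq_one_right hF.uu, inv_eq_of_mul_eq_one_right hF.vv, hF.comm]
    rintro _ (rfl | rfl | rfl | rfl) <;>
      simp only [inv_one, inv_eq_of_mul_eq_one_right hF.uu, inv_eq_of_mul_eq_one_right hF.vv, h6,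
        Set.mem_ofPred_eq, true_or, or_true]

omit [Finite S] [Finite E] in
theorem FourAct.mem_grp (hF : FourAct b u v) {x : S} :
    x ∈ hF.grp ↔ x = 1 ∨ x = u ∨ x = v ∨ x = u * v := Iff.rfl

omit [Finite S] [Finite E] in
theorem FourAct.sq_grp (hF : FourAct b u v) {x : S} (hx : x ∈ hF.grp) : x * x = 1 := by
  rcases hF.mem_grp.1 hx with rfl | rfl | rfl | rfl
  · exact one_mul 1
  · exact hF.uu
  · exact hF.vv
  · exact hF.shift.vv

/-- A `q`-element, `q ≥ 5`, centralised by one involution of the four-group and inverted by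
another is trivial. -/
theorem inv_cent_eq_one (hf : Function.Injective σ) (hF : FourAct b u v)
    (hD : finrank (ZMod 3) ↥(comm σ b) ≤ 2) {q : ℕ} [hq : Fact q.Prime] (hq5 : 5 ≤ q) {x : S}
    (hx : x ^ q = 1) (hu : x * u = u * x) (hv : v * x * v = x⁻¹) : x = 1 := by
  have hW1 := hF.finrank_W σ hD
  have hq3 : (q : ZMod 3) ≠ 0 := by
    rw [Ne, ZMod.natCast_eq_zero_iff, Nat.prime_dvd_prime_iff_eq Nat.prime_three hq.out]
    omega
  have hU : ∀ y ∈ comm σ u, σ x y = y := by
    intro y hy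
    refine small_fixed σ hq5 hx (comm σ u) (fun z hz => ?_) ?_ hy
    · obtain ⟨w, rfl⟩ := (mem_comm σ).1 hz
      rw [map_sub, ← mul_apply, hu, mul_apply]
      exact sub_mem_comm σ u _
    · refine (Submodule.finrank_mono (hF.comm_u_le σ)).trans
        ((Submodule.finrank_add_le_finrank_add_finrank _ _).trans ?_)
      exact Nat.add_le_add ((Submodule.finrank_map_le _ _).trans hW1)
        ((Submodule.finrank_map_le _ _).trans hW1)
  obtain ⟨m, hm⟩ : Odd q := hq.out.odd_of_ne_two (by omega)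
  set k := m + 1
  set a := x ^ k with ha
  have hvx : ∀ n : ℕ, v * x ^ n = (x⁻¹) ^ n * v := by
    intro n
    induction n with
    | zero => simp
    | succ n ih =>
      rw [pow_succ, ← mul_assoc, ih, pow_succ, mul_assoc, mul_assoc, ← hv,
        mul_assoc (v * x) v v, hF.vv, mul_one]
  have hxv : x * v = a * v * a⁻¹ := by
    have e : a⁻¹ = x⁻¹ ^ k := (inv_pow x k).symm
    have e2 : v * a⁻¹ = a * v := by
      have := hvx k
      rw [← ha, ← e] at this
      calc v * a⁻¹ = v * a⁻¹ * (v * v) := by rw [hF.vv, mul_one]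
        _ = v * (a⁻¹ * v) * v := by group
        _ = v * (v * a) * v := by rw [this]
        _ = a * v := by rw [← mul_assoc, hF.vv, one_mul]
    rw [mul_assoc, e2, ← mul_assoc, ha, ← pow_add,
      show k + k = q + 1 by omega, pow_succ, hx, one_mul]
  have hN : ∀ y, σ u y = y → σ x y = y := by
    intro y hy
    have hau : a * u = u * a := (Commute.pow_left (show Commute x u from hu) k).eq
    have hainvu : a⁻¹ * u = u * a⁻¹ := ((show Commute a u from hau).inv_left).eq
    set M := ((fix σ u).map (σ x - 1)) with hM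
    have hMle : M ≤ (hF.W σ).map (σ a) ⊔ hF.W σ := by
      rintro _ ⟨z, hz, rfl⟩
      rw [SetLike.mem_coe, mem_fix] at hz
      have hz' : σ u (σ v z) = σ v z := by rw [hF.u_comm_v, hz]
      have hz'' : σ u (σ a⁻¹ (σ v z)) = σ a⁻¹ (σ v z) := by
        rw [← mul_apply, ← hainvu, mul_apply, hz']
      have e1 : (σ x - 1) z = (σ a (σ v (σ a⁻¹ (σ v z)) - σ a⁻¹ (σ v z)))
          + (σ v z - z) := by
        rw [map_sub, apply_inv_apply, ← mul_apply σ v, ← mul_apply σ a, ← mul_assoc, ← hxv,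
          mul_apply, hF.v_v, LinearMap.sub_apply, Module.End.one_apply]
        abel
      rw [e1]
      exact add_mem (Submodule.mem_sup_left (Submodule.mem_map_of_mem (hF.sub_mem_W σ hz'')))
        (Submodule.mem_sup_right (hF.sub_mem_W σ hz))
    have hMinv : ∀ z ∈ M, σ x z ∈ M := by
      rintro _ ⟨z, hz, rfl⟩
      rw [SetLike.mem_coe, mem_fix] at hz
      refine ⟨σ x z, ?_, by simp⟩
      rw [SetLike.mem_coe, mem_fix, ← mul_apply, ← hu, mul_apply, hz]
    have hM2 : finrank (ZMod 3) M ≤ 2 :=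
      (Submodule.finrank_mono hMle).trans ((Submodule.finrank_add_le_finrank_add_finrank _ _).trans
        (Nat.add_le_add ((Submodule.finrank_map_le _ _).trans hW1) hW1))
    refine fixed_of_sub_fixed σ hq3 hx (small_fixed σ hq5 hx M hMinv hM2 ?_)
    exact ⟨y, (mem_fix σ).2 hy, by simp⟩
  refine hf (LinearMap.ext fun y => ?_)
  rw [map_one, Module.End.one_apply]
  have e : y = -((y + σ u y) + (y - σ u y)) := by
    rw [show y + σ u y + (y - σ u y) = y + y by abel, add_self, neg_neg]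
  conv_lhs => rw [e]
  conv_rhs => rw [e]
  rw [map_neg, map_add, hN _ (by rw [map_add, hF.u_u, add_comm]),
    hU _ (by rw [← neg_sub]; exact neg_mem (sub_mem_comm σ u y))]

/-- The four-group centralises every `q`-group it normalises, `q ≥ 5`. -/
theorem four_centralizes (hf : Function.Injective σ) (hF : FourAct b u v) (hu1 : u ≠ 1)
    (hD : finrank (ZMod 3) ↥(comm σ b) ≤ 2) {q : ℕ} [hq : Fact q.Prime] (hq5 : 5 ≤ q)
    {X : Subgroup S} (hX : IsPGroup q X) (hn : ∀ a ∈ hF.grp, ∀ x ∈ X, a * x * a⁻¹ ∈ X)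
    {x : S} (hx : x ∈ X) : x * u = u * x ∧ x * v = v * x := by
  have key : ∀ {u' v' : S} (hF' : FourAct b u' v'), v' ∈ hF.grp → ∀ y ∈ X, y * u' = u' * y →
      y * v' = v' * y := by
    intro u' v' hF' hv' y hy hyu
    have hvi : v'⁻¹ = v' := inv_eq_of_mul_eq_one_right hF'.vv
    set c := y * (v' * y⁻¹ * v'⁻¹) with hc
    have hcX : c ∈ X := mul_mem hy (hn _ hv' _ (inv_mem hy))
    have hcu : c * u' = u' * c := by
      have h1 : Commute y u' := hyu
      have h2 : Commute v' u' := hF'.comm.symm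
      exact (h1.mul_left ((h2.mul_left h1.inv_left).mul_left h2.inv_left)).eq
    have hcv : v' * c * v' = c⁻¹ := by
      rw [hc, mul_inv_rev, mul_inv_rev, mul_inv_rev, inv_inv, inv_inv, hvi]
      simp only [← mul_assoc]
      rw [mul_assoc _ v' v', hF'.vv, mul_one]
    have hc1 : c = 1 := by
      by_contra hne
      obtain ⟨k, hk⟩ := IsPGroup.iff_orderOf.1 hX ⟨c, hcX⟩
      rw [Subgroup.orderOf_mk] at hk
      obtain ⟨j, rfl⟩ : ∃ j, k = j + 1 := Nat.exists_eq_succ_of_ne_zero (by
        rintro rfl; rw [pow_zero, orderOf_eq_one_iff] at hk; exact hne hk)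
      have hd : c ^ q ^ j ≠ 1 := by
        intro h
        have := Nat.le_of_dvd (pow_pos hq.out.pos _) (hk ▸ orderOf_dvd_of_pow_eq_one h)
        exact absurd this (not_le.2 (Nat.pow_lt_pow_right hq.out.one_lt (Nat.lt_succ_self j)))
      refine hd (inv_cent_eq_one hf hF' hD hq5 (by rw [← pow_mul, ← pow_succ, ← hk,
        pow_orderOf_eq_one]) ((Commute.pow_left (show Commute c u' from hcu) _).eq) ?_)
      have : ∀ n : ℕ, v' * c ^ n * v' = c⁻¹ ^ n := by
        intro n
        induction n with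
        | zero => rw [pow_zero, pow_zero, mul_one, hF'.vv]
        | succ n ih =>
          rw [pow_succ, pow_succ, ← ih, ← hcv]
          calc v' * (c ^ n * c) * v' = v' * c ^ n * (v' * v') * (c * v') := by
                rw [hF'.vv]; group
            _ = _ := by group
      rw [this, inv_pow]
    rw [hc, ← mul_assoc, ← mul_assoc, hvi] at hc1
    calc y * v' = y * v' * y⁻¹ * v' * (v' * y) := by
          rw [mul_assoc (y * v' * y⁻¹) v' (v' * y), ← mul_assoc v' v' y, hF'.vv]; group
      _ = v' * y := by rw [hc1, one_mul]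
  have hg : ∀ y, y ∈ hF.grp ↔ y = 1 ∨ y = u ∨ y = v ∨ y = u * v := fun y => Iff.rfl
  have h1 : ∀ y ∈ X, y * u = u * y → y * v = v * y := key hF ((hg v).2 (by simp))
  have h2 : ∀ y ∈ X, y * v = v * y → y * (u * v) = u * v * y :=
    key hF.shift ((hg (u * v)).2 (by simp))
  have h3 : ∀ y ∈ X, y * (u * v) = u * v * y → y * u = u * y := by
    intro y hy h
    have e : v * (u * v) = u := by rw [← mul_assoc, ← hF.comm, mul_assoc, hF.vv, mul_one]
    have := key hF.shift.shift (by rw [e]; exact (hg u).2 (by simp)) y hy h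
    rwa [e] at this
  haveI : IsMulCommutative hF.grp := ⟨⟨fun a c => Subtype.ext (by
    have h := hF.sq_grp (mul_mem a.2 c.2)
    have ha := hF.sq_grp a.2
    have hc := hF.sq_grp c.2
    show (a : S) * c = c * a
    calc (a : S) * c = a * c * ((c * a) * (c * a)) := by
          rw [show (c : S) * a * (c * a) = 1 from hF.sq_grp (mul_mem c.2 a.2), mul_one]
      _ = a * (c * c) * a * (c * a) := by group
      _ = c * a := by rw [hc, mul_one, ha, one_mul])⟩⟩
  have hnc : ¬ IsCyclic hF.grp := by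
    intro h
    classical
    haveI := Fintype.ofFinite hF.grp
    obtain ⟨g, hgen⟩ := h.exists_generator
    have hle : Nat.card hF.grp ≤ 2 := by
      rw [← orderOf_eq_card_of_forall_mem_zpowers hgen]
      exact orderOf_le_of_pow_eq_one two_pos
        (Subtype.ext (by rw [Subgroup.coe_pow, pow_two]; exact hF.sq_grp g.2))
    have h3' : ({1, u, v} : Finset S).card ≤ Nat.card hF.grp := by
      rw [← Nat.card_eq_finsetCard]
      exact Nat.card_le_card_of_injective
        (fun z => (⟨z.1, by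
          obtain ⟨z, hz⟩ := z
          simp only [Finset.mem_insert, Finset.mem_singleton] at hz
          rw [hg]; tauto⟩ : hF.grp))
        (fun z z' e => Subtype.ext (congrArg Subtype.val e :))
    have : ({1, u, v} : Finset S).card = 3 := by
      rw [Finset.card_insert_of_notMem, Finset.card_pair (hF.ne_uv hu1)]
      simp only [Finset.mem_insert, Finset.mem_singleton, not_or]
      exact ⟨Ne.symm hu1, Ne.symm (hF.v_ne_one hu1)⟩
    omega
  have hcopA : (Nat.card hF.grp).Coprime (Nat.card X) := by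
    haveI : Fact (Nat.Prime 2) := ⟨Nat.prime_two⟩
    have h2' : IsPGroup 2 hF.grp := fun a => ⟨1, Subtype.ext (by
      rw [pow_one, Subgroup.coe_pow, pow_two]; exact hF.sq_grp a.2)⟩
    exact IsPGroup.coprime_card_of_ne 2 q (by omega) _ _ h2' hX
  have hgen := CfsgLib.Coprime.le_of_forall_inf_centralizer_le hnc
    (fun a ha => Subgroup.mem_normalizer_fintype fun y hy => hn a ha y hy) hcopA
    (W := Subgroup.centralizer ({u, v} : Set S)) (fun a ha ha1 => by
      rintro y ⟨hyX, hya⟩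
      have hya : y * a = a * y := Subgroup.mem_centralizer_singleton_iff.1 hya
      rw [Subgroup.mem_centralizer_iff]
      have hall : y * u = u * y ∧ y * v = v * y := by
        rcases (hg a).1 ha with rfl | rfl | rfl | rfl
        · exact absurd rfl ha1
        · exact ⟨hya, h1 y hyX hya⟩
        · exact ⟨h3 y hyX (h2 y hyX hya), hya⟩
        · exact ⟨h3 y hyX hya, h1 y hyX (h3 y hyX hya)⟩
      rintro z (rfl | rfl)
      · exact hall.1.symm
      · exact hall.2.symm)
  have := Subgroup.mem_centralizer_iff.1 (hgen hx)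
  exact ⟨(this u (by simp)).symm, (this v (by simp)).symm⟩

namespace Data

variable (h : Data σ R b u v)
include h

theorem b_norm_inv {r : S} (hr : r ∈ R) : b⁻¹ * r * b ∈ R := by
  have e : b⁻¹ * r * b = b * (b * r * b⁻¹) * b⁻¹ := by
    have : b⁻¹ = b * b := inv_eq_of_mul_eq_one_right (by rw [← mul_assoc, ← pow_three', h.b3])
    rw [show b * (b * r * b⁻¹) * b⁻¹ = (b * b) * r * (b * b)⁻¹ by group, ← this, inv_inv]
  rw [e]
  exact h.hbR _ (h.hbR _ hr)

theorem vR : v ∈ R := h.four.bu ▸ h.hbR _ h.uR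

theorem of_conj {H : Subgroup S} (hH : ∀ r ∈ R, r * b * r⁻¹ ∈ H) : R ≤ H :=
  h.gen.trans ((Subgroup.closure_le H).2 (by rintro _ ⟨r, hr, rfl⟩; exact hH r hr))

theorem b_mem_of_normalized {H : Subgroup S} (hb : b ∈ H)
    (hn : ∀ r ∈ R, ∀ x ∈ H, r * x * r⁻¹ ∈ H) : R ≤ H :=
  h.of_conj fun r hr => hn r hr b hb

theorem W_ne : h.four.W σ ≠ ⊥ := h.four.W_ne_bot h.faith h.u1

theorem b_fix_fixR {y : E} (hy : y ∈ fixR σ R) : σ b y = y :=
  h.four.b_fixes_C σ h.rank h.W_ne
    ((h.four.mem_C σ).2 ⟨mem_fixR.1 hy u h.uR, mem_fixR.1 hy v h.vR⟩)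

omit h in
/-- The averaging projection. -/
noncomputable def avg (σ : S →* Module.End (ZMod 3) E) (R : Subgroup S) :
    Module.End (ZMod 3) E :=
  haveI := Fintype.ofFinite R
  ((Nat.card R : ZMod 3))⁻¹ • ∑ r : R, σ (r : S)

theorem card_ne_zero : (Nat.card R : ZMod 3) ≠ 0 := by
  rw [Ne, ZMod.natCast_eq_zero_iff]
  exact (Nat.prime_three.coprime_iff_not_dvd.1 h.cop.symm)

theorem avg_fix {y : E} (hy : y ∈ fixR σ R) : avg σ R y = y := by
  letI := Fintype.ofFinite R
  simp only [avg, LinearMap.smul_apply, LinearMap.sum_apply]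
  rw [Finset.sum_congr rfl (fun (r : R) _ => mem_fixR.1 hy r r.2), Finset.sum_const, Finset.card_univ,
    ← Nat.card_eq_fintype_card, ← Nat.cast_smul_eq_nsmul (ZMod 3), smul_smul,
    inv_mul_cancel₀ h.card_ne_zero, one_smul]

theorem avg_comm {r : S} (hr : r ∈ R) (y : E) : avg σ R (σ r y - y) = 0 := by
  letI := Fintype.ofFinite R
  simp only [avg, LinearMap.smul_apply, LinearMap.sum_apply, map_sub, ← mul_apply]
  rw [Fintype.sum_equiv (Equiv.mulRight (⟨r, hr⟩ : R)) (fun s : R => σ ((s : S) * r) y)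
    (fun s : R => σ (s : S) y) (fun s => rfl), sub_self]

theorem avg_mem (y : E) : avg σ R y ∈ fixR σ R := by
  letI := Fintype.ofFinite R
  rw [mem_fixR]
  intro r hr
  simp only [avg, LinearMap.smul_apply, LinearMap.sum_apply, map_smul, map_sum, ← mul_apply]
  rw [Fintype.sum_equiv (Equiv.mulLeft (⟨r, hr⟩ : R)) (fun s : R => σ (r * (s : S)) y)
    (fun s : R => σ (s : S) y) (fun s => rfl)]

theorem avg_commR {y : E} (hy : y ∈ commR σ R) : avg σ R y = 0 :=
  (commR_le (N := LinearMap.ker (avg σ R)) fun r hr z => h.avg_comm hr z) hy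

theorem disjoint : commR σ R ⊓ fixR σ R = ⊥ :=
  (Submodule.eq_bot_iff _).2 fun y hy => by rw [← h.avg_fix hy.2, h.avg_commR hy.1]

theorem codisjoint : commR σ R ⊔ fixR σ R = ⊤ := by
  letI := Fintype.ofFinite R
  rw [eq_top_iff]
  intro y _
  have e : y - avg σ R y = (Nat.card R : ZMod 3)⁻¹ • ∑ r : R, (y - σ (r : S) y) := by
    simp only [avg, LinearMap.smul_apply, LinearMap.sum_apply, Finset.sum_sub_distrib,
      Finset.sum_const, Finset.card_univ, ← Nat.card_eq_fintype_card,
      ← Nat.cast_smul_eq_nsmul (ZMod 3), smul_sub, smul_smul]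
    rw [inv_mul_cancel₀ h.card_ne_zero, one_smul]
  rw [← sub_add_cancel y (avg σ R y)]
  refine add_mem (Submodule.mem_sup_left ?_) (Submodule.mem_sup_right (h.avg_mem y))
  rw [e]
  refine Submodule.smul_mem _ _ (Submodule.sum_mem _ fun r _ => ?_)
  rw [← neg_sub]
  exact neg_mem (sub_mem_commR r.2 y)

theorem split (y : E) : ∃ y0 ∈ commR σ R, ∃ y1 ∈ fixR σ R, y = y0 + y1 := by
  have : y ∈ commR σ R ⊔ fixR σ R := h.codisjoint ▸ Submodule.mem_top
  obtain ⟨y0, h0, y1, h1, e⟩ := Submodule.mem_sup.1 this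
  exact ⟨y0, h0, y1, h1, e.symm⟩

theorem b_commR {y : E} (hy : y ∈ commR σ R) : σ b y ∈ commR σ R := normalize_commR h.hbR hy

theorem R_commR {r : S} (hr : r ∈ R) {y : E} (hy : y ∈ commR σ R) : σ r y ∈ commR σ R :=
  normalize_commR (fun _ hs => mul_mem (mul_mem hr hs) (inv_mem hr)) hy

theorem comm_b_le : comm σ b ≤ commR σ R := by
  intro z hz
  obtain ⟨y, rfl⟩ := (mem_comm σ).1 hz
  obtain ⟨y0, h0, y1, h1, rfl⟩ := h.split y
  rw [map_add, h.b_fix_fixR h1, add_sub_add_right_eq_sub]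
  exact sub_mem (h.b_commR h0) h0

theorem comm_b_ne : comm σ b ≠ ⊥ := by
  intro hc
  obtain ⟨y, hy⟩ := h.cubic
  have := sub_mem_comm σ b y
  rw [hc, Submodule.mem_bot] at this
  rw [this, map_zero, sub_zero] at hy
  exact hy rfl

/-- The subgroup `RB`. -/
def G (_h : Data σ R b u v) : Subgroup S := R ⊔ zpowers b

theorem G_le {H : Subgroup S} (hb : b ∈ H) (hR : R ≤ H) : h.G ≤ H :=
  sup_le hR (Subgroup.zpowers_le.2 hb)

theorem fix_fixR {g : S} (hg : g ∈ h.G) {y : E} (hy : y ∈ fixR σ R) : σ g y = y := by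
  refine (h.G_le (H :=
    { carrier := {g | σ g y = y}
      one_mem' := one_apply σ y
      mul_mem' := fun {a c} (ha : σ a y = y) (hc : σ c y = y) => by
        show σ (a * c) y = y
        rw [mul_apply, hc, ha]
      inv_mem' := fun {a} (ha : σ a y = y) => by
        show σ a⁻¹ y = y
        conv_lhs => rw [← ha]
        rw [inv_apply_apply] }) (h.b_fix_fixR hy) fun r hr => mem_fixR.1 hy r hr) hg

theorem G_commR {g : S} (hg : g ∈ h.G) {y : E} (hy : y ∈ commR σ R) : σ g y ∈ commR σ R := by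
  have hle : h.G ≤ Subgroup.closure ((R : Set S) ∪ {b}) :=
    h.G_le (Subgroup.subset_closure (Or.inr rfl))
      fun r hr => Subgroup.subset_closure (Or.inl hr)
  suffices ∀ a ∈ Subgroup.closure ((R : Set S) ∪ {b}), ∀ y ∈ commR σ R, σ a y ∈ commR σ R from
    this g (hle hg) y hy
  intro a ha
  induction ha using Subgroup.closure_induction with
  | mem x hx =>
    intro y hy
    rcases hx with hx | rfl
    · exact h.R_commR hx hy
    · exact h.b_commR hy
  | one => intro y hy; rwa [one_apply]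
  | mul a c _ _ iha ihc => intro y hy; rw [mul_apply]; exact iha _ (ihc _ hy)
  | inv a _ iha =>
    intro y hy
    obtain ⟨n, hn⟩ : a⁻¹ ∈ Submonoid.powers a :=
      mem_powers_iff_mem_zpowers.2 (inv_mem (Subgroup.mem_zpowers a))
    rw [← hn]
    clear hn
    induction n with
    | zero => simpa using hy
    | succ n ihn => show σ (a ^ (n + 1)) y ∈ _; rw [pow_succ', mul_apply]; exact iha _ ihn

theorem G_faith {g : S} (hg : g ∈ h.G) (hfix : ∀ y ∈ commR σ R, σ g y = y) : g = 1 := by
  refine h.faith (LinearMap.ext fun y => ?_)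
  obtain ⟨y0, h0, y1, h1, rfl⟩ := h.split y
  rw [map_one, Module.End.one_apply, map_add, hfix y0 h0, h.fix_fixR hg h1]

/-- `RB` is irreducible on the commutator space. -/
theorem irreducible {N : Submodule (ZMod 3) E} (hle : N ≤ commR σ R)
    (hRN : ∀ r ∈ R, ∀ y ∈ N, σ r y ∈ N) (hbN : ∀ y ∈ N, σ b y ∈ N) :
    N = ⊥ ∨ N = commR σ R := by
  by_cases hWN : h.four.W σ ≤ N
  · right
    refine le_antisymm hle ?_
    have hD : comm σ b ≤ N := (h.four.comm_b_le σ h.rank h.W_ne).trans
      (sup_le (sup_le hWN (by rintro _ ⟨y, hy, rfl⟩; exact hbN y (hWN hy)))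
        (by rintro _ ⟨y, hy, rfl⟩; exact hbN _ (hbN y (hWN hy))))
    let H : Subgroup S :=
      { carrier := {g | ∀ y, σ g y - y ∈ N}
        one_mem' := fun y => by simp
        mul_mem' := fun {a c} ha hc y => by
          have := add_mem (ha (σ c y)) (hc y)
          rwa [sub_add_sub_cancel, ← mul_apply] at this
        inv_mem' := fun {a} ha y => by
          have := neg_mem (ha (σ a⁻¹ y))
          rwa [apply_inv_apply, neg_sub] at this }
    have hRH : R ≤ H := h.b_mem_of_normalized (H := H)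
      (fun y => hD (sub_mem_comm σ b y)) fun r hr g hg y => by
        have := hRN r hr _ (hg (σ r⁻¹ y))
        rwa [map_sub, apply_inv_apply, ← mul_apply σ g, ← mul_apply σ r, ← mul_assoc] at this
    exact commR_le fun r hr y => hRH hr y
  · left
    have hW0 : ∀ y ∈ h.four.W σ, y ∈ N → y = 0 := by
      intro y hy hyN
      by_contra hy0
      refine hWN fun z hz => ?_
      have h1 : finrank (ZMod 3) ↥(h.four.W σ) = 1 :=
        le_antisymm (h.four.finrank_W σ h.rank) (Submodule.one_le_finrank_iff.2 h.W_ne)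
      obtain ⟨c, hc⟩ := (finrank_eq_one_iff_of_nonzero' (⟨y, hy⟩ : h.four.W σ)
        (fun e => hy0 (congrArg Subtype.val e))).1 h1 ⟨z, hz⟩
      have := congrArg Subtype.val hc
      change c • y = z at this
      rw [← this]
      exact N.smul_mem _ hyN
    have hb2 : ∀ y, σ b y ∈ N → y ∈ N := by
      intro y hy
      have e : σ b (σ b (σ b y)) = y := by
        rw [← mul_apply, ← mul_apply, ← pow_three', h.b3, one_apply]
      exact e ▸ hbN _ (hbN _ hy)
    have hufix : ∀ y ∈ N, σ u y = y := by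
      intro y hy
      have ht : σ u y - y ∈ N := sub_mem (hRN u h.uR y hy) hy
      obtain ⟨p, hp, q', hq', e⟩ := Submodule.mem_sup.1 (h.four.comm_u_le σ (sub_mem_comm σ u y))
      obtain ⟨p', hp', rfl⟩ := hp
      obtain ⟨q'', hq'', rfl⟩ := hq'
      rw [← e] at ht
      have hvt := hRN v h.vR _ ht
      rw [map_add, (h.four.u_b σ hp').2, show (σ b * σ b) q'' = σ b (σ b q'') from rfl,
        (h.four.u_bb σ hq'').2] at hvt
      have h1 := add_mem hvt ht
      rw [show (σ b * σ b) q'' = σ b (σ b q'') from rfl,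
        show σ b p' + -σ b (σ b q'') + (σ b p' + σ b (σ b q'')) = σ b p' + σ b p' by abel,
        add_self, neg_mem_iff] at h1
      have hp0 : p' = 0 := hW0 p' hp' (hb2 _ h1)
      subst hp0
      have hq0 : q'' = 0 := by
        rw [map_zero, zero_add] at ht
        exact hW0 q'' hq'' (hb2 _ (hb2 _ ht))
      subst hq0
      rw [map_zero, map_zero, add_zero, eq_comm, sub_eq_zero] at e
      exact e
    have hvfix : ∀ y ∈ N, σ v y = y := by
      intro y hy
      rw [← h.four.bu, mul_apply, mul_apply, hufix _ (hb2 _ (by rwa [apply_inv_apply])),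
        apply_inv_apply]
    have hbfix : ∀ y ∈ N, σ b y = y := fun y hy =>
      h.four.b_fixes_C σ h.rank h.W_ne ((h.four.mem_C σ).2 ⟨hufix y hy, hvfix y hy⟩)
    let H : Subgroup S :=
      { carrier := {g | ∀ y ∈ N, σ g y = y}
        one_mem' := fun y _ => one_apply σ y
        mul_mem' := fun {a c} ha hc y hy => by rw [mul_apply, hc y hy, ha y hy]
        inv_mem' := fun {a} ha y hy => by
          conv_lhs => rw [← ha y hy]
          rw [inv_apply_apply] }
    have hRH : R ≤ H := h.b_mem_of_normalized (H := H) hbfix fun r hr g hg y hy => by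
      rw [mul_apply, mul_apply, hg _ (hRN _ (inv_mem hr) y hy), apply_inv_apply]
    rw [← le_bot_iff, ← h.disjoint]
    exact le_inf hle fun y hy => mem_fixR.2 fun r hr => hRH hr y hy

theorem central_comm {z : S} (hzR : z ∈ R) (hzb : z * b = b * z)
    (hzc : ∀ r ∈ R, z * r = r * z) :
    (∀ y ∈ commR σ R, σ z y = y) ∨ (∀ y ∈ commR σ R, σ z y = y → y = 0) := by
  rcases h.irreducible (N := commR σ R ⊓ fix σ z) inf_le_left
    (fun r hr y hy => ⟨h.R_commR hr hy.1, (mem_fix σ).2 (by
      rw [← mul_apply, hzc r hr, mul_apply, (mem_fix σ).1 hy.2])⟩)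
    (fun y hy => ⟨h.b_commR hy.1, (mem_fix σ).2 (by
      rw [← mul_apply, hzb, mul_apply, (mem_fix σ).1 hy.2])⟩) with e | e
  · exact Or.inr fun y hy hz => (Submodule.mem_bot _).1
      (e.le (show y ∈ commR σ R ⊓ fix σ z from ⟨hy, (mem_fix σ).2 hz⟩))
  · exact Or.inl fun y hy => (mem_fix σ).1 ((e.symm ▸ hy : y ∈ commR σ R ⊓ fix σ z).2)

theorem fix_of_W {q : ℕ} [hq : Fact q.Prime] (hq2 : q ≠ 2) {x : S} {k : ℕ}
    (hx : x ^ q ^ k = 1) (hxu : x * u = u * x) (hxv : x * v = v * x) {y : E}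
    (hy : y ∈ h.four.W σ) : σ x y = y := by
  obtain ⟨hy1, hy2⟩ := (h.four.mem_W σ).1 hy
  by_cases hy0 : y = 0
  · rw [hy0, map_zero]
  have hxy : σ x y ∈ h.four.W σ := by
    rw [FourAct.mem_W, ← mul_apply, ← hxu, mul_apply, hy1, ← mul_apply, ← hxv, mul_apply, hy2,
      map_neg]
    exact ⟨rfl, rfl⟩
  have h1 : finrank (ZMod 3) ↥(h.four.W σ) = 1 :=
    le_antisymm (h.four.finrank_W σ h.rank) (Submodule.one_le_finrank_iff.2 h.W_ne)
  obtain ⟨c, hc⟩ := (finrank_eq_one_iff_of_nonzero' (⟨y, hy⟩ : h.four.W σ)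
    (fun e => hy0 (congrArg Subtype.val e))).1 h1 ⟨_, hxy⟩
  have hc' : c • y = σ x y := congrArg Subtype.val hc
  have hne : c • y ≠ 0 := by
    rw [hc']; exact fun e => hy0 (apply_injective σ x (e.trans (map_zero _).symm))
  rcases smul_cases hne with e | e
  · rw [← hc', e]
  · exfalso
    rw [hc'] at e
    have hodd : ∀ n : ℕ, σ (x ^ (2 * n + 1)) y = -y := by
      intro n
      induction n with
      | zero => rw [mul_zero, zero_add, pow_one, e]
      | succ n ih =>
        rw [show 2 * (n + 1) + 1 = 2 * n + 1 + 1 + 1 by ring, pow_succ', pow_succ', mul_apply,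
          mul_apply, ih, map_neg, e, neg_neg, e]
    obtain ⟨n, hn⟩ : Odd (q ^ k) := (hq.out.odd_of_ne_two hq2).pow
    have := hodd n
    rw [← hn, hx, one_apply] at this
    exact hy0 (eq_zero_of_neg this.symm)

/-- `q`-groups normalised by the four-group are centralised by `b`. -/
theorem commute_b {q : ℕ} [hq : Fact q.Prime] (hq5 : 5 ≤ q)
    {X : Subgroup S} (hX : IsPGroup q X) (hn : ∀ a ∈ h.four.grp, ∀ x ∈ X, a * x * a⁻¹ ∈ X)
    (hbn : ∀ x ∈ X, b⁻¹ * x * b ∈ X) {x : S} (hx : x ∈ X) : x * b = b * x := by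
  have hcen : ∀ y ∈ X, y * u = u * y ∧ y * v = v * y := fun y hy =>
    four_centralizes h.faith h.four h.u1 h.rank hq5 hX hn hy
  have hfW : ∀ y ∈ X, ∀ z ∈ h.four.W σ, σ y z = z := by
    intro y hy z hz
    obtain ⟨k, hk⟩ := hX ⟨y, hy⟩
    exact h.fix_of_W (by omega) (k := k) (congrArg Subtype.val hk) (hcen y hy).1 (hcen y hy).2 hz
  have hfbW : ∀ y ∈ X, ∀ z ∈ h.four.W σ, σ y (σ b z) = σ b z := by
    intro y hy z hz
    have := hfW _ (hbn y hy) z hz
    rw [mul_apply, mul_apply] at this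
    exact apply_injective σ b⁻¹ (by rw [this, inv_apply_apply])
  have hfbbW : ∀ y ∈ X, ∀ z ∈ h.four.W σ, σ y (σ b (σ b z)) = σ b (σ b z) := by
    intro y hy z hz
    have := hfbW _ (hbn y hy) z hz
    rw [mul_apply, mul_apply] at this
    exact apply_injective σ b⁻¹ (by rw [this, inv_apply_apply])
  have hxi : x⁻¹ ∈ X := inv_mem hx
  suffices e : x * b * x⁻¹ * b⁻¹ = 1 by
    calc x * b = x * b * x⁻¹ * b⁻¹ * (b * x) := by group
      _ = b * x := by rw [e, one_mul]
  refine h.faith (LinearMap.ext fun y => ?_)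
  rw [map_one, Module.End.one_apply]
  have hy := h.four.decompose σ (Submodule.mem_top : y ∈ ⊤)
  revert y
  intro y hy
  refine (show h.four.C σ ⊔ h.four.W σ ⊔ (h.four.W σ).map (σ b) ⊔
      (h.four.W σ).map (σ b * σ b) ≤ fix σ (x * b * x⁻¹ * b⁻¹) from
    sup_le (sup_le (sup_le ?_ ?_) ?_) ?_) hy |> (mem_fix σ).1
  · intro z hz
    rw [mem_fix]
    have hbz := h.four.b_fixes_C σ h.rank h.W_ne hz
    have hbiz : σ b⁻¹ z = z := by
      conv_lhs => rw [← hbz]
      rw [inv_apply_apply]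
    have hxz : σ x⁻¹ z ∈ h.four.C σ := by
      obtain ⟨h1, h2⟩ := (h.four.mem_C σ).1 hz
      rw [FourAct.mem_C, ← mul_apply, ← (hcen _ hxi).1, mul_apply, h1, ← mul_apply,
        ← (hcen _ hxi).2, mul_apply, h2]
      exact ⟨rfl, rfl⟩
    rw [mul_apply, mul_apply, mul_apply, hbiz, h.four.b_fixes_C σ h.rank h.W_ne hxz,
      apply_inv_apply]
  all_goals intro z hz
  all_goals rw [mem_fix]
  · have e1 : σ b⁻¹ z = σ b (σ b z) := by
      apply apply_injective σ b
      rw [apply_inv_apply, ← mul_apply, ← mul_apply, ← pow_three', h.b3, one_apply]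
    rw [mul_apply, mul_apply, mul_apply, e1, hfbbW _ hxi z hz]
    have e2 : σ b (σ b (σ b z)) = z := by
      rw [← mul_apply, ← mul_apply, ← pow_three', h.b3, one_apply]
    rw [e2, hfW x hx z hz]
  · obtain ⟨w, hw, rfl⟩ := hz
    rw [mul_apply, mul_apply, mul_apply, inv_apply_apply, hfW _ hxi w hw, hfbW x hx w hw]
  · obtain ⟨w, hw, rfl⟩ := hz
    show σ _ (σ b (σ b w)) = σ b (σ b w)
    rw [mul_apply, mul_apply, mul_apply, inv_apply_apply, hfbW _ hxi w hw, hfbbW x hx w hw]

/-- No normal `q`-subgroup, `q ≥ 5`. -/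
theorem eq_bot_of_normalized {q : ℕ} [hq : Fact q.Prime] (hq5 : 5 ≤ q) {X : Subgroup S}
    (hX : IsPGroup q X) (hXR : X ≤ R) (hRn : ∀ r ∈ R, ∀ x ∈ X, r * x * r⁻¹ ∈ X)
    (hbn : ∀ x ∈ X, b⁻¹ * x * b ∈ X) : X = ⊥ := by
  have hgR : ∀ a ∈ h.four.grp, a ∈ R := by
    intro a ha
    rcases h.four.mem_grp.1 ha with rfl | rfl | rfl | rfl
    · exact one_mem _
    · exact h.uR
    · exact h.vR
    · exact mul_mem h.uR h.vR
  have hXb : ∀ x ∈ X, x * b = b * x := fun x hx =>
    h.commute_b hq5 hX (fun a ha => hRn a (hgR a ha)) hbn hx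
  have hXR' : ∀ x ∈ X, ∀ r ∈ R, x * r = r * x := by
    intro x hx r hr
    have : r ∈ Subgroup.centralizer (X : Set S) :=
      h.b_mem_of_normalized (H := Subgroup.centralizer (X : Set S))
        (Subgroup.mem_centralizer_iff.2 hXb) (fun s hs g hg => by
          rw [Subgroup.mem_centralizer_iff] at hg ⊢
          intro y hy
          have h1 := hg _ (hRn s⁻¹ (inv_mem hs) y hy)
          rw [inv_inv] at h1
          calc y * (s * g * s⁻¹) = s * ((s⁻¹ * y * s) * g) * s⁻¹ := by group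
            _ = s * (g * (s⁻¹ * y * s)) * s⁻¹ := by rw [h1]
            _ = s * g * s⁻¹ * y := by group) hr
    exact Subgroup.mem_centralizer_iff.1 this x hx
  by_contra hne
  haveI : Nontrivial X := X.nontrivial_iff_ne_bot.2 hne
  obtain ⟨k, hk0, hk⟩ := hX.nontrivial_iff_card.1 inferInstance
  obtain ⟨⟨z, hz⟩, hzo⟩ := exists_prime_orderOf_dvd_card' (G := X) q
    (hk ▸ dvd_pow_self q (by omega))
  rw [Subgroup.orderOf_mk] at hzo
  have hzq : z ^ q = 1 := hzo ▸ pow_orderOf_eq_one z
  have hz1 : z ≠ 1 := fun e => by rw [e, orderOf_one] at hzo; omega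
  have hfix : ∀ y ∈ comm σ b, σ z y = y := fun y hy =>
    small_fixed σ hq5 hzq (comm σ b) (fun w hw => by
      obtain ⟨w', rfl⟩ := (mem_comm σ).1 hw
      rw [map_sub, ← mul_apply, hXb z hz, mul_apply]
      exact sub_mem_comm σ b _) h.rank hy
  rcases h.central_comm (hXR hz) (hXb z hz) (hXR' z hz) with e | e
  · exact hz1 (h.G_faith (Subgroup.mem_sup_left (hXR hz)) e)
  · exact h.comm_b_ne ((Submodule.eq_bot_iff _).2 fun y hy => e y (h.comm_b_le hy) (hfix y hy))

/-- The largest normal `2`-subgroup of `R`. -/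
theorem exists_core : ∃ T : Subgroup S, T ≤ R ∧ IsPGroup 2 T ∧
    (∀ r ∈ R, ∀ x ∈ T, r * x * r⁻¹ ∈ T) ∧ (∀ x ∈ T, b * x * b⁻¹ ∈ T) ∧
    (∀ g ∈ R, (∀ t ∈ T, g * t = t * g) → g ∈ T) ∧
    (IsPGroup 2 R → T = R) := by
  haveI := h.solv
  haveI : Fact (Nat.Prime 2) := ⟨Nat.prime_two⟩
  have hbn : zpowers b ≤ Subgroup.normalizer (R : Set S) :=
    Subgroup.zpowers_le.2 (Subgroup.mem_normalizer_fintype h.hbR)
  have hmap : ∀ (p : ℕ), ∀ x ∈ (Cfsg.pCore p ↥R).map R.subtype, ∀ g ∈ zpowers b,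
      g * x * g⁻¹ ∈ (Cfsg.pCore p ↥R).map R.subtype := by
    intro p x hx g hg
    haveI := CfsgLib.Solvable.pCore_characteristic (G := ↥R) p
    exact (Subgroup.mem_normalizer_iff.1
      (CfsgLib.HallHigman.le_normalizer_map_char hbn (Cfsg.pCore p ↥R) hg) x).1 hx
  have hmapR : ∀ (p : ℕ), ∀ r ∈ R, ∀ x ∈ (Cfsg.pCore p ↥R).map R.subtype,
      r * x * r⁻¹ ∈ (Cfsg.pCore p ↥R).map R.subtype := by
    rintro p r hr _ ⟨x, hx, rfl⟩
    exact ⟨⟨r, hr⟩ * x * ⟨r, hr⟩⁻¹, (CfsgLib.Solvable.pCore_normal p).conj_mem x hx _, rfl⟩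
  have hother : ∀ p : ℕ, p.Prime → p ≠ 2 → Cfsg.pCore p ↥R = ⊥ := by
    intro p hp hp2
    haveI := Fact.mk hp
    by_cases hp3 : p = 3
    · subst hp3
      exact CfsgLib.Solvable.pCore_eq_bot_of_not_dvd
        (Nat.prime_three.coprime_iff_not_dvd.1 h.cop.symm)
    · have hp5 : 5 ≤ p := by
        by_contra hlt
        interval_cases p <;> simp_all (config := { decide := true })
      apply (Subgroup.map_eq_bot_iff_of_injective _ R.subtype_injective).1
      refine h.eq_bot_of_normalized hp5 ((CfsgLib.Solvable.isPGroup_pCore p).map R.subtype)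
        (Subgroup.map_subtype_le _) (hmapR p) (fun x hx => ?_)
      simpa using hmap p x hx b⁻¹ (inv_mem (Subgroup.mem_zpowers b))
  have hF : Cfsg.fittingSubgroup ↥R ≤ Cfsg.pCore 2 ↥R := by
    rw [CfsgLib.Solvable.fittingSubgroup_eq_iSup]
    refine iSup_le fun p => ?_
    by_cases hp : (p : ℕ) = 2
    · rw [hp]
    · rw [hother p p.2 hp]; exact bot_le
  refine ⟨(Cfsg.pCore 2 ↥R).map R.subtype, Subgroup.map_subtype_le _,
    (CfsgLib.Solvable.isPGroup_pCore 2).map R.subtype, hmapR 2,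
    fun x hx => hmap 2 x hx b (Subgroup.mem_zpowers b), fun g hg hc => ?_, fun h2 => ?_⟩
  · refine ⟨⟨g, hg⟩, hF (CfsgLib.Solvable.centralizer_fittingSubgroup_le
      (Subgroup.mem_centralizer_iff.2 fun t ht => Subtype.ext ?_)), rfl⟩
    exact (hc t ⟨t, hF ht, rfl⟩).symm
  · refine le_antisymm (Subgroup.map_subtype_le _) fun r hr => ⟨⟨r, hr⟩, ?_, rfl⟩
    exact CfsgLib.Solvable.le_pCore (N := (⊤ : Subgroup ↥R))
      (fun x => by
        obtain ⟨k, hk⟩ := h2 (x : ↥R)
        exact ⟨k, Subtype.ext hk⟩) (Subgroup.mem_top _)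

/-- A central involution of `RB` in `R` negates the commutator space. -/
theorem central_neg {z : S} (hzR : z ∈ R) (hz : z * z = 1) (hz1 : z ≠ 1) (hzb : z * b = b * z)
    (hzc : ∀ r ∈ R, z * r = r * z) : ∀ y ∈ commR σ R, σ z y = -y := by
  rcases h.central_comm hzR hzb hzc with e | e
  · exact absurd (h.G_faith (Subgroup.mem_sup_left hzR) e) hz1
  · intro y hy
    have := e (y + σ z y) (add_mem hy (h.R_commR hzR hy))
      (by rw [map_add, ← mul_apply, hz, one_apply, add_comm])
    exact eq_neg_of_add_eq_zero_right this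

theorem neg_unique {z z' : S} (hz : z ∈ R) (hz' : z' ∈ R)
    (n : ∀ y ∈ commR σ R, σ z y = -y) (n' : ∀ y ∈ commR σ R, σ z' y = -y) : z = z' := by
  refine inv_mul_eq_one.1 (h.G_faith (Subgroup.mem_sup_left (mul_mem (inv_mem hz) hz'))
    fun y hy => ?_)
  rw [mul_apply, n' y hy, map_neg, eq_comm, ← sub_eq_zero, sub_neg_eq_add]
  apply apply_injective σ z
  rw [map_add, apply_inv_apply, n y hy, neg_add_cancel, map_zero]

theorem cube_zero (y : E) :
    σ b (σ b (σ b y - y) - (σ b y - y)) - (σ b (σ b y - y) - (σ b y - y)) = 0 := by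
  have e : σ b (σ b (σ b y)) = y := by
    rw [← mul_apply, ← mul_apply, ← pow_three', h.b3, one_apply]
  simp only [map_sub, e]
  have h3 := add_self (σ b (σ b y))
  have h4 := add_self (σ b y)
  calc _ = -(σ b (σ b y) + σ b (σ b y) + σ b (σ b y))
        + (σ b y + σ b y + σ b y) := by abel
    _ = 0 := by rw [h3, h4, neg_add_cancel, neg_add_cancel, neg_zero, add_zero]

/-- The image of `(b - 1)²` is a line. -/
theorem finrank_sq : finrank (ZMod 3) ↥((comm σ b).map (σ b - 1)) = 1 := by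
  set D := (comm σ b).map (σ b - 1) with hD
  have hle : D ≤ comm σ b := by
    rintro _ ⟨y, hy, rfl⟩
    exact sub_mem_comm σ b y
  have hne : D ≠ ⊥ := by
    intro e
    obtain ⟨y, hy⟩ := h.cubic
    have : σ b (σ b y - y) - (σ b y - y) ∈ D := ⟨_, sub_mem_comm σ b y, by simp⟩
    rw [e, Submodule.mem_bot] at this
    exact hy this
  have hne' : D ≠ comm σ b := by
    intro e
    refine hne ((Submodule.eq_bot_iff _).2 ?_)
    rintro _ ⟨y, hy, rfl⟩
    rw [SetLike.mem_coe, ← e] at hy
    obtain ⟨w, hw, rfl⟩ := hy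
    obtain ⟨x, rfl⟩ := (mem_comm σ).1 hw
    simpa using h.cube_zero x
  have h1 := Submodule.one_le_finrank_iff.2 hne
  have h2 := Submodule.finrank_lt_finrank_of_lt (lt_of_le_of_ne hle hne')
  have h3 := h.rank
  omega

/-- No central element of order four in `R`. -/
theorem no_central_sq_neg {a : S} (hab : a * b = b * a)
    (n : ∀ y ∈ commR σ R, σ (a * a) y = -y) : False := by
  have h1 := h.finrank_sq
  set L := (comm σ b).map (σ b - 1) with hL
  obtain ⟨y, hy, hy0⟩ := (Submodule.ne_bot_iff L).1 (Submodule.one_le_finrank_iff.1 h1.ge)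
  have hinv : σ a y ∈ L := by
    obtain ⟨w, hw, rfl⟩ := hy
    obtain ⟨x, rfl⟩ := (mem_comm σ).1 hw
    refine ⟨σ b (σ a x) - σ a x, sub_mem_comm σ b _, ?_⟩
    simp only [LinearMap.sub_apply, Module.End.one_apply, map_sub, ← mul_apply, ← mul_assoc, hab]
    rw [show b * a * b = b * b * a by rw [mul_assoc, hab, mul_assoc]]
  have hyF : y ∈ commR σ R := by
    obtain ⟨w, hw, rfl⟩ := hy
    exact h.comm_b_le (sub_mem_comm σ b w)
  obtain ⟨c, hc⟩ := (finrank_eq_one_iff_of_nonzero' (⟨y, hy⟩ : L)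
    (fun e => hy0 (congrArg Subtype.val e))).1 h1 ⟨_, hinv⟩
  have hc' : c • y = σ a y := congrArg Subtype.val hc
  have hne : c • y ≠ 0 := by
    rw [hc']; exact fun e => hy0 (apply_injective σ a (e.trans (map_zero _).symm))
  have h2 : σ (a * a) y = y := by
    rcases smul_cases hne with e | e <;> rw [hc'] at e
    · rw [mul_apply, e, e]
    · rw [mul_apply, e, map_neg, e, neg_neg]
  exact hy0 (eq_zero_of_neg ((n y hyF).symm.trans h2))

/-- The commutator space has dimension at least three. -/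
theorem three_le : 3 ≤ finrank (ZMod 3) ↥(commR σ R) := by
  have hne : comm σ b ≠ commR σ R := by
    intro e
    have h1 : (comm σ b).map (σ b - 1) = comm σ b := by
      refine le_antisymm (by rintro _ ⟨y, _, rfl⟩; exact sub_mem_comm σ b y) ?_
      intro z hz
      obtain ⟨y, rfl⟩ := (mem_comm σ).1 hz
      obtain ⟨y0, h0, y1, hy1, rfl⟩ := h.split y
      refine ⟨y0, e ▸ h0, ?_⟩
      simp [h.b_fix_fixR hy1]
    have h2 := h.finrank_sq
    rw [h1] at h2
    have h3 := h.four.finrank_W σ h.rank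
    have h4 := LinearMap.finrank_le_finrank_of_injective (h.four.toRange_injective σ)
    rw [Module.finrank_prod, h2] at h4
    have h5 := Submodule.one_le_finrank_iff.2 h.W_ne
    omega
  have h1 := Submodule.finrank_lt_finrank_of_lt (lt_of_le_of_ne h.comm_b_le hne)
  have h4 := LinearMap.finrank_le_finrank_of_injective (h.four.toRange_injective σ)
  rw [Module.finrank_prod] at h4
  have h5 := Submodule.one_le_finrank_iff.2 h.W_ne
  omega

end Data

end CfsgLib.FGS74.Cubic
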