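import Cfsg.Prelude.Def_Transfer
import Cfsg.Agent.FGS74.Cubic.Setup
import Cfsg.Agent.ExtraspecialBasic.Order
import Cfsg.Agent.Solvable.Nilpotent
import Cfsg.Agent.Solvable.Frattini

/-!
# The case without noncentral abelian normal subgroups: `R` is extraspecial of order 32
-/

set_option autoImplicit false
set_option linter.style.haveILetI false
set_option linter.unusedSectionVars false
set_option linter.unusedTactic false

namespace CfsgLib.FGS74.Cubic

open Module (finrank)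
open Subgroup (zpowers)
open scoped commutatorElement

variable {S : Type*} [Group S] [Finite S] {E : Type*} [AddCommGroup E] [Module (ZMod 3) E]
  [Finite E]

/-- A nonabelian `2`-group whose squares lie in a central subgroup `{1, z}` which is the whole
centre is extraspecial. -/
theorem isExtraspecial_of {T : Subgroup S} (hT : IsPGroup 2 T) {z : S} (hzT : z ∈ T)
    (hz2 : z * z = 1) (hz1 : z ≠ 1) (hzc : ∀ t ∈ T, z * t = t * z)
    (hsq : ∀ x ∈ T, x * x = 1 ∨ x * x = z)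
    (hcen : ∀ x ∈ T, (∀ t ∈ T, x * t = t * x) → x = 1 ∨ x = z)
    (hnc : ∃ x ∈ T, ∃ y ∈ T, x * y ≠ y * x) : Cfsg.IsExtraspecial 2 ↥T := by
  haveI : Fact (Nat.Prime 2) := ⟨Nat.prime_two⟩
  have hZ : ∀ x : T, x ∈ Subgroup.center T ↔ (x : S) = 1 ∨ (x : S) = z := by
    intro x
    rw [Subgroup.mem_center_iff]
    constructor
    · exact fun h => hcen x x.2 fun t ht => (congrArg Subtype.val (h ⟨t, ht⟩)).symm
    · rintro (h | h) t <;> apply Subtype.ext <;> show (t : S) * x = x * t <;> rw [h]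
      · rw [mul_one, one_mul]
      · exact (hzc t t.2).symm
  have hsqZ : ∀ x : T, x * x ∈ Subgroup.center T := fun x => (hZ _).2 (hsq x x.2)
  have hcomm : commutator T ≤ Subgroup.center T := by
    rw [commutator_def, Subgroup.commutator_le]
    intro x _ y _
    have h1 := hsqZ x
    have h2 := hsqZ y
    have h3 := hsqZ (x * y)
    rw [Subgroup.mem_center_iff] at h1 h2
    have e : ⁅x, y⁆ = (x * y) * (x * y) * (y * y)⁻¹ * (x * x)⁻¹ := by
      have e1 : ∀ g : T, g * (y * y)⁻¹ = (y * y)⁻¹ * g := fun g =>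
        ((show Commute g (y * y) from h2 g).inv_right).eq
      have e2 : ∀ g : T, g * (x * x)⁻¹ = (x * x)⁻¹ * g := fun g =>
        ((show Commute g (x * x) from h1 g).inv_right).eq
      symm
      calc (x * y) * (x * y) * (y * y)⁻¹ * (x * x)⁻¹
          = x * y * x * (y * (y * y)⁻¹) * (x * x)⁻¹ := by group
        _ = x * y * x * y⁻¹ * (x * x)⁻¹ := by group
        _ = x * y * (x * (y⁻¹ * (x * x)⁻¹)) := by group
        _ = x * y * (x * ((x * x)⁻¹ * y⁻¹)) := by rw [e2]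
        _ = ⁅x, y⁆ := by rw [commutatorElement_def]; group
    rw [e]
    exact mul_mem (mul_mem h3 (inv_mem ((hZ _).2 (hsq y y.2)))) (inv_mem ((hZ _).2 (hsq x x.2)))
  have hcard : Nat.card (Subgroup.center T) = 2 := by
    rw [Nat.card_eq_two_iff]
    refine ⟨1, ⟨⟨z, hzT⟩, (hZ _).2 (Or.inr rfl)⟩, fun e => hz1 (congrArg (fun a : Subgroup.center T => ((a : T) : S)) e).symm,
      Set.eq_univ_of_forall fun x => ?_⟩
    rcases (hZ _).1 x.2 with h | h
    · exact Or.inl (Subtype.ext (Subtype.ext h))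
    · exact Or.inr (Subtype.ext (Subtype.ext h))
  have hne : commutator T ≠ ⊥ := by
    intro e
    obtain ⟨x, hx, y, hy, hxy⟩ := hnc
    have : ⁅(⟨x, hx⟩ : T), ⟨y, hy⟩⁆ ∈ commutator T := by
      rw [commutator_def]
      exact Subgroup.commutator_mem_commutator (Subgroup.mem_top _) (Subgroup.mem_top _)
    rw [e, Subgroup.mem_bot, commutatorElement_eq_one_iff_mul_comm] at this
    exact hxy (congrArg Subtype.val this)
  have heq : commutator T = Subgroup.center T := by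
    refine Subgroup.eq_of_le_of_card_ge hcomm ?_
    rw [hcard]
    exact Subgroup.one_lt_card_iff_ne_bot _ |>.2 hne
  refine ⟨⟨hT, le_antisymm ?_ ?_, heq⟩, hcard⟩
  · exact CfsgLib.Solvable.frattini_le_of_elementary (p := 2) hcomm
      fun x => by rw [pow_two]; exact hsqZ x
  · rw [← heq]
    exact CfsgLib.Solvable.commutator_le_frattini hT

/-- The facts on `T = O₂(R)` in the case without noncentral abelian normal subgroups. -/
structure ECore (σ : S →* Module.End (ZMod 3) E) (R : Subgroup S) (b : S) (T : Subgroup S)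
    (ζ : S) : Prop where
  hTR : T ≤ R
  hT : IsPGroup 2 T
  hRT : ∀ r ∈ R, ∀ x ∈ T, r * x * r⁻¹ ∈ T
  hRT'' : ∀ r ∈ R, ∀ t ∈ T, r⁻¹ * t * r ∈ T
  hbT : ∀ x ∈ T, b * x * b⁻¹ ∈ T
  hCT : ∀ g ∈ R, (∀ t ∈ T, g * t = t * g) → g ∈ T
  hTmax : IsPGroup 2 R → T = R
  hζT : ζ ∈ T
  hζ2 : ζ * ζ = 1
  hζ1 : ζ ≠ 1
  hζt : ∀ t ∈ T, ζ * t = t * ζ
  hζb : ζ * b = b * ζ
  hζR : ∀ r ∈ R, ζ * r = r * ζ
  hζn : ∀ y ∈ commR σ R, σ ζ y = -y
  hsq : ∀ x ∈ T, x * x = 1 ∨ x * x = ζ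
  hcen : ∀ x ∈ T, (∀ t ∈ T, x * t = t * x) → x = 1 ∨ x = ζ
  hnc : ∃ x ∈ T, ∃ y ∈ T, x * y ≠ y * x
  hext : Cfsg.IsExtraspecial 2 ↥T
  hconjζ : ∀ w ∈ T, ∀ t ∈ T, w * t ≠ t * w → t * w * t⁻¹ = ζ * w
  hx0ex : ∃ x ∈ T, x * x = ζ

namespace Data

variable {σ : S →* Module.End (ZMod 3) E} {R : Subgroup S} {b u v : S} (h : Data σ R b u v)
include h

/-- The representation of `RB` on the commutator space. -/
noncomputable def res : ↥h.G →* Module.End (ZMod 3) ↥(commR σ R) where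
  toFun g := (σ (g : S)).restrict fun _ hy => h.G_commR g.2 hy
  map_one' := LinearMap.ext fun y => Subtype.ext (one_apply σ (y : E))
  map_mul' g k := LinearMap.ext fun y => Subtype.ext (mul_apply σ (g : S) (k : S) (y : E))

theorem res_apply (g : ↥h.G) (y : commR σ R) : ((h.res g y : commR σ R) : E) = σ (g : S) y := rfl

theorem res_injective : Function.Injective h.res := by
  rw [injective_iff_map_eq_one]
  intro g hg
  refine Subtype.ext (h.G_faith g.2 fun y hy => ?_)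
  exact congrArg Subtype.val (LinearMap.congr_fun hg ⟨y, hy⟩)

theorem mem_G {r : S} (hr : r ∈ R) : r ∈ h.G := Subgroup.mem_sup_left hr

/-- Order divisors of `R` in dimension four. -/
theorem card_dvd_GL (h4 : finrank (ZMod 3) ↥(commR σ R) = 4) : Nat.card R ∣ 24261120 := by
  let e : Module.End (ZMod 3) ↥(commR σ R) ≃* Matrix (Fin 4) (Fin 4) (ZMod 3) :=
    (LinearMap.toMatrixAlgEquiv (Module.finBasisOfFinrankEq (ZMod 3) _ h4)).toMulEquiv
  let f : ↥R →* GL (Fin 4) (ZMod 3) :=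
    ((Units.mapEquiv e).toMonoidHom.comp h.res.toHomUnits).comp
      (Subgroup.inclusion (le_sup_left : R ≤ h.G))
  have hf : Function.Injective f := by
    intro x y hxy
    apply Subgroup.inclusion_injective (le_sup_left : R ≤ h.G)
    apply h.res_injective
    exact congrArg Units.val ((Units.mapEquiv e).injective hxy)
  have hc := Subgroup.card_dvd_of_injective f hf
  rw [Matrix.card_GL_field, ZMod.card] at hc
  simpa [Fin.prod_univ_four] using hc

/-- An element with square `-1` forces even dimension. -/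
theorem finrank_ne_three {x : S} (hx : x ∈ R)
    (n : ∀ y ∈ commR σ R, σ (x * x) y = -y) : finrank (ZMod 3) ↥(commR σ R) ≠ 3 := by
  intro h3
  have e : h.res ⟨x, h.mem_G hx⟩ * h.res ⟨x, h.mem_G hx⟩ = (-1 : ZMod 3) • 1 := by
    rw [← map_mul]
    refine LinearMap.ext fun y => Subtype.ext ?_
    rw [h.res_apply, LinearMap.smul_apply, Submodule.coe_smul, Module.End.one_apply, neg_smul,
      one_smul]
    exact n y y.2
  have e' := congrArg LinearMap.det e
  rw [map_mul, LinearMap.det_smul, map_one, h3, mul_one] at e'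
  revert e'
  generalize LinearMap.det (h.res ⟨x, h.mem_G hx⟩) = d
  revert d
  decide


/-- A prime-order element of `R` centralising `b` is trivial in dimension four. -/
theorem eq_one_of_five (h4 : finrank (ZMod 3) ↥(commR σ R) = 4) {g : S} (hg : g ∈ R)
    (h5 : g ^ 5 = 1) (hgb : g * b = b * g) : g = 1 := by
  haveI : Fact (Nat.Prime 5) := ⟨by norm_num⟩
  have hfix : ∀ y ∈ comm σ b, σ g y = y := fun y hy =>
    small_fixed σ (q := 5) le_rfl h5 (comm σ b) (fun w hw => by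
      obtain ⟨w', rfl⟩ := (mem_comm σ).1 hw
      rw [map_sub, ← mul_apply, hgb, mul_apply]
      exact sub_mem_comm σ b _) h.rank hy
  have hmod := modEq_fixed σ (q := 5) h5 (commR σ R) (fun y hy => h.R_commR hg hy)
  have hle : finrank (ZMod 3) ↥(commR σ R ⊓ fix σ g) ≤ 4 :=
    h4 ▸ Submodule.finrank_mono inf_le_left
  have hpos : 1 ≤ finrank (ZMod 3) ↥(commR σ R ⊓ fix σ g) :=
    (Submodule.one_le_finrank_iff.2 h.comm_b_ne).trans (Submodule.finrank_mono
      (le_inf h.comm_b_le fun y hy => (mem_fix σ).2 (hfix y hy)))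
  have heq : finrank (ZMod 3) ↥(commR σ R ⊓ fix σ g) = 4 := by
    rw [h4] at hmod
    generalize finrank (ZMod 3) ↥(commR σ R ⊓ fix σ g) = j at *
    interval_cases j <;> first | rfl | exact absurd hmod (by decide)
  have := Submodule.eq_of_le_of_finrank_eq inf_le_left (heq.trans h4.symm)
  exact h.G_faith (h.mem_G hg) fun y hy => (mem_fix σ).1 ((this.symm ▸ hy :
    y ∈ commR σ R ⊓ fix σ g)).2

/-- Existence of the core data. -/
theorem exists_eCore
    (hE : ∀ A : Subgroup S, A ≤ R → (∀ a ∈ A, ∀ a' ∈ A, a * a' = a' * a) →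
      (∀ a ∈ A, a * a = 1) → (∀ r ∈ R, ∀ a ∈ A, r * a * r⁻¹ ∈ A) →
      (∀ a ∈ A, b * a * b⁻¹ ∈ A) → ∀ a ∈ A, a * b = b * a) :
    ∃ T ζ, ECore σ R b T ζ := by
  haveI : Fact (Nat.Prime 2) := ⟨Nat.prime_two⟩
  obtain ⟨T, hTR, hT, hRT, hbT, hCT, hTmax⟩ := h.exists_core
  have hgR : ∀ a ∈ h.four.grp, a ∈ R := by
    intro a ha
    rcases h.four.mem_grp.1 ha with rfl | rfl | rfl | rfl
    · exact one_mem _
    · exact h.uR
    · exact h.vR
    · exact mul_mem h.uR h.vR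
  have hneg : ∀ A : Subgroup S, A ≤ T → (∀ a ∈ A, ∀ a' ∈ A, a * a' = a' * a) →
      (∀ r ∈ R, ∀ a ∈ A, r * a * r⁻¹ ∈ A) → (∀ a ∈ A, b * a * b⁻¹ ∈ A) → ∀ a ∈ A,
      a * a = 1 → a ≠ 1 → a * b = b * a ∧ (∀ r ∈ R, a * r = r * a) ∧
        ∀ y ∈ commR σ R, σ a y = -y := by
    intro A hAT hAc hAR hAb a ha ha2 ha1
    let I : Subgroup S :=
      { carrier := {x | x ∈ A ∧ x * x = 1}
        one_mem' := ⟨one_mem A, one_mul 1⟩
        mul_mem' := fun {x y} hx hy => ⟨mul_mem hx.1 hy.1, by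
          rw [mul_assoc, ← mul_assoc y x y, hAc y hy.1 x hx.1, mul_assoc x y y, hy.2, mul_one,
            hx.2]⟩
        inv_mem' := fun {x} hx => ⟨inv_mem hx.1, by rw [← mul_inv_rev, hx.2, inv_one]⟩ }
    have hconj : ∀ g x : S, x * x = 1 → g * x * g⁻¹ * (g * x * g⁻¹) = 1 := fun g x hx => by
      calc g * x * g⁻¹ * (g * x * g⁻¹) = g * (x * x) * g⁻¹ := by group
        _ = 1 := by rw [hx, mul_one, mul_inv_cancel]
    have hIb : ∀ x ∈ I, x * b = b * x := hE I (fun x hx => hTR (hAT hx.1))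
      (fun x hx y hy => hAc x hx.1 y hy.1) (fun x hx => hx.2)
      (fun r hr x hx => ⟨hAR r hr x hx.1, hconj r x hx.2⟩)
      (fun x hx => ⟨hAb x hx.1, hconj b x hx.2⟩)
    have hIR : R ≤ Subgroup.centralizer (I : Set S) :=
      h.b_mem_of_normalized (Subgroup.mem_centralizer_iff.2 hIb) fun r hr g hg => by
        rw [Subgroup.mem_centralizer_iff] at hg ⊢
        intro x hx
        have hx' : r⁻¹ * x * r ∈ I := by
          have h1 : r⁻¹ * x * r⁻¹⁻¹ ∈ I :=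
            ⟨hAR r⁻¹ (inv_mem hr) x hx.1, hconj r⁻¹ x hx.2⟩
          rwa [inv_inv] at h1
        calc x * (r * g * r⁻¹) = r * ((r⁻¹ * x * r) * g) * r⁻¹ := by group
          _ = r * (g * (r⁻¹ * x * r)) * r⁻¹ := by rw [hg _ hx']
          _ = r * g * r⁻¹ * x := by group
    have hac : ∀ r ∈ R, a * r = r * a := fun r hr =>
      Subgroup.mem_centralizer_iff.1 (hIR hr) a ⟨ha, ha2⟩
    exact ⟨hIb a ⟨ha, ha2⟩, hac,
      h.central_neg (hTR (hAT ha)) ha2 ha1 (hIb a ⟨ha, ha2⟩) hac⟩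
  have hexp : ∀ A : Subgroup S, A ≤ T → (∀ a ∈ A, ∀ a' ∈ A, a * a' = a' * a) →
      (∀ r ∈ R, ∀ a ∈ A, r * a * r⁻¹ ∈ A) → (∀ a ∈ A, b * a * b⁻¹ ∈ A) → ∀ a ∈ A,
      a * a = 1 := by
    intro A hAT hAc hAR hAb a ha
    by_contra ha2
    obtain ⟨k, hk⟩ := IsPGroup.iff_orderOf.1 hT ⟨a, hAT ha⟩
    rw [Subgroup.orderOf_mk] at hk
    obtain ⟨j, rfl⟩ : ∃ j, k = j + 2 := by
      refine ⟨k - 2, ?_⟩
      by_contra hlt
      have : k ≤ 1 := by omega
      apply ha2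
      rw [← pow_two]
      apply orderOf_dvd_iff_pow_eq_one.1
      rw [hk]
      exact pow_dvd_pow 2 this |>.trans (by norm_num)
    set c := a ^ 2 ^ j with hc
    have hcA : c ∈ A := pow_mem ha _
    have hcc : c * c = a ^ 2 ^ (j + 1) := by rw [hc, ← pow_add, pow_succ, mul_two]
    have hi2 : c * c * (c * c) = 1 := by
      rw [hcc, ← pow_add, ← mul_two, ← pow_succ, ← hk, pow_orderOf_eq_one]
    have hi1 : c * c ≠ 1 := by
      rw [hcc]
      intro e
      have := Nat.le_of_dvd (pow_pos two_pos _) (hk ▸ orderOf_dvd_of_pow_eq_one e)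
      exact absurd this (not_le.2 (Nat.pow_lt_pow_right one_lt_two (by omega)))
    obtain ⟨hib, -, hin⟩ := hneg A hAT hAc hAR hAb _ (mul_mem hcA hcA) hi2 hi1
    set e := b * c * b⁻¹ * c⁻¹ with he
    have heA : e ∈ A := mul_mem (hAb c hcA) (inv_mem hcA)
    have hcom : c⁻¹ * (b * c * b⁻¹) = b * c * b⁻¹ * c⁻¹ := hAc _ (inv_mem hcA) _ (hAb c hcA)
    have he2 : e * e = 1 := by
      calc e * e = b * c * b⁻¹ * (c⁻¹ * (b * c * b⁻¹)) * c⁻¹ := by rw [he]; group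
        _ = b * c * b⁻¹ * (b * c * b⁻¹ * c⁻¹) * c⁻¹ := by rw [hcom]
        _ = b * (c * c) * b⁻¹ * (c * c)⁻¹ := by group
        _ = 1 := by rw [← hib, mul_inv_cancel_right, mul_inv_cancel]
    by_cases he1 : e = 1
    · have hcb : c * b = b * c := by
        have : b * c * b⁻¹ = c := mul_inv_eq_one.1 he1
        exact (mul_inv_eq_iff_eq_mul.1 this).symm
      exact h.no_central_sq_neg hcb hin
    · obtain ⟨heb, -, hen⟩ := hneg A hAT hAc hAR hAb e heA he2 he1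
      have hei : e = c * c :=
        h.neg_unique (hTR (hAT heA)) (hTR (hAT (mul_mem hcA hcA))) hen hin
      have h1 : b * c * b⁻¹ = e * c := by rw [he, inv_mul_cancel_right]
      have h2 : b * (b * c * b⁻¹) * b⁻¹ = e * (e * c) := by
        rw [h1, show b * (e * c) * b⁻¹ = b * e * b⁻¹ * (b * c * b⁻¹) by group, h1, ← heb,
          mul_inv_cancel_right]
      rw [← mul_assoc e e c, he2, one_mul] at h2
      have h3 : b * c * b⁻¹ = c := by
        conv_rhs => rw [show c = b * (b * (b * c * b⁻¹) * b⁻¹) * b⁻¹ by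
          calc c = b ^ 3 * c * (b ^ 3)⁻¹ := by rw [h.b3]; group
            _ = _ := by rw [pow_three']; group]
        rw [h2]
      exact he1 (by rw [he, h3, mul_inv_cancel])
  have hRT' : ∀ {A : Subgroup S}, A ≤ T → ∀ a ∈ A, a ∈ T := fun hA a ha => hA ha
  have hu : u ∈ R := h.uR
  have hZT : ∃ ζ ∈ T, ζ ≠ 1 ∧ ∀ t ∈ T, ζ * t = t * ζ := by
    have hTne : T ≠ ⊥ := by
      intro e
      have := hCT u hu (fun t ht => by rw [e, Subgroup.mem_bot] at ht; rw [ht, mul_one, one_mul])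
      rw [e, Subgroup.mem_bot] at this
      exact h.u1 this
    haveI : Nontrivial T := T.nontrivial_iff_ne_bot.2 hTne
    haveI := hT.center_nontrivial
    obtain ⟨⟨⟨x, hx⟩, hxc⟩, hne⟩ := exists_ne (1 : Subgroup.center T)
    exact ⟨x, hx, fun e => hne (Subtype.ext (Subtype.ext e)),
      fun t ht => (congrArg Subtype.val (Subgroup.mem_center_iff.1 hxc ⟨t, ht⟩)).symm⟩
  obtain ⟨ζ, hζT, hζ1, hζt⟩ := hZT
  let Z : Subgroup S := T ⊓ Subgroup.centralizer (T : Set S)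
  have hmemZ : ∀ {x : S}, x ∈ Z ↔ x ∈ T ∧ ∀ t ∈ T, t * x = x * t := fun {x} =>
    Subgroup.mem_inf.trans (and_congr_right fun _ => Subgroup.mem_centralizer_iff)
  have hconjT : ∀ g : S, (∀ t ∈ T, g⁻¹ * t * g ∈ T) → ∀ {x : S}, (∀ t ∈ T, t * x = x * t) →
      ∀ t ∈ T, t * (g * x * g⁻¹) = g * x * g⁻¹ * t := by
    intro g hg x hx t ht
    calc t * (g * x * g⁻¹) = g * ((g⁻¹ * t * g) * x) * g⁻¹ := by group
      _ = g * (x * (g⁻¹ * t * g)) * g⁻¹ := by rw [hx _ (hg t ht)]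
      _ = g * x * g⁻¹ * t := by group
  have hRT'' : ∀ r ∈ R, ∀ t ∈ T, r⁻¹ * t * r ∈ T := fun r hr t ht => by
    simpa using hRT r⁻¹ (inv_mem hr) t ht
  have hbT' : ∀ t ∈ T, b⁻¹ * t * b ∈ T := fun t ht => by
    have e : b⁻¹ * t * b = b * (b * t * b⁻¹) * b⁻¹ := by
      have : b⁻¹ = b * b := inv_eq_of_mul_eq_one_right (by rw [← mul_assoc, ← pow_three', h.b3])
      rw [show b * (b * t * b⁻¹) * b⁻¹ = (b * b) * t * (b * b)⁻¹ by group, ← this, inv_inv]
    rw [e]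
    exact hbT _ (hbT _ ht)
  have hA0 : ∀ a ∈ Z, ∀ a' ∈ Z, a * a' = a' * a := fun a ha a' ha' =>
    (hmemZ.1 ha').2 a (hmemZ.1 ha).1
  have hAR0 : ∀ r ∈ R, ∀ a ∈ Z, r * a * r⁻¹ ∈ Z := fun r hr a ha =>
    hmemZ.2 ⟨hRT r hr a (hmemZ.1 ha).1, hconjT r (hRT'' r hr) (hmemZ.1 ha).2⟩
  have hAb0 : ∀ a ∈ Z, b * a * b⁻¹ ∈ Z := fun a ha =>
    hmemZ.2 ⟨hbT a (hmemZ.1 ha).1, hconjT b hbT' (hmemZ.1 ha).2⟩
  have hζZ : ζ ∈ Z := hmemZ.2 ⟨hζT, fun t ht => (hζt t ht).symm⟩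
  have hζ2 : ζ * ζ = 1 := hexp Z inf_le_left hA0 hAR0 hAb0 ζ hζZ
  obtain ⟨hζb, hζR, hζn⟩ := hneg Z inf_le_left hA0 hAR0 hAb0 ζ hζZ hζ2 hζ1
  have habel : ∀ A : Subgroup S, A ≤ T → (∀ a ∈ A, ∀ a' ∈ A, a * a' = a' * a) →
      (∀ r ∈ R, ∀ a ∈ A, r * a * r⁻¹ ∈ A) → (∀ a ∈ A, b * a * b⁻¹ ∈ A) → ∀ a ∈ A,
      a = 1 ∨ a = ζ := by
    intro A hAT hAc hAR hAb a ha
    by_cases ha1 : a = 1
    · exact Or.inl ha1
    · exact Or.inr (h.neg_unique (hTR (hAT ha)) (hTR hζT)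
        (hneg A hAT hAc hAR hAb a ha (hexp A hAT hAc hAR hAb a ha) ha1).2.2 hζn)
  have hcen : ∀ x ∈ T, (∀ t ∈ T, x * t = t * x) → x = 1 ∨ x = ζ := fun x hx hxc =>
    habel Z inf_le_left hA0 hAR0 hAb0 x (hmemZ.2 ⟨hx, fun t ht => (hxc t ht).symm⟩)
  have hnc : ∃ x ∈ T, ∃ y ∈ T, x * y ≠ y * x := by
    by_contra hall
    push Not at hall
    have hT2 : ∀ x ∈ T, x = 1 ∨ x = ζ := habel T le_rfl hall hRT hbT
    have hR2 : ∀ r ∈ R, r = 1 ∨ r = ζ := fun r hr => hT2 r (hCT r hr fun t ht => by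
      rcases hT2 t ht with rfl | rfl
      · rw [mul_one, one_mul]
      · exact (hζR r hr).symm)
    rcases hR2 u h.uR with e | e
    · exact h.u1 e
    rcases hR2 v h.vR with e' | e'
    · exact h.four.v_ne_one h.u1 e'
    exact h.four.ne_uv h.u1 (e.trans e'.symm)
  -- commutators are central
  have hsq : ∀ x ∈ T, x * x = 1 ∨ x * x = ζ := by
    let C2 : Subgroup S :=
      { carrier := {x | x ∈ T ∧ ∀ t ∈ T, x * t * x⁻¹ * t⁻¹ ∈ Z}
        one_mem' := ⟨one_mem T, fun t _ => by simp⟩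
        mul_mem' := fun {x y} hx hy => ⟨mul_mem hx.1 hy.1, fun t ht => by
          have e : x * y * t * (x * y)⁻¹ * t⁻¹
              = x * (y * t * y⁻¹ * t⁻¹) * x⁻¹ * (x * t * x⁻¹ * t⁻¹) := by group
          rw [e]
          exact mul_mem (hAR0 x (hTR hx.1) _ (hy.2 t ht)) (hx.2 t ht)⟩
        inv_mem' := fun {x} hx => ⟨inv_mem hx.1, fun t ht => by
          have e : x⁻¹ * t * x⁻¹⁻¹ * t⁻¹ = x⁻¹ * (x * t * x⁻¹ * t⁻¹)⁻¹ * x⁻¹⁻¹ := by group
          rw [e]
          exact hAR0 _ (inv_mem (hTR hx.1)) _ (inv_mem (hx.2 t ht))⟩ }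
    have hC2n : ∀ g : S, (∀ t ∈ T, g * t * g⁻¹ ∈ T) → (∀ t ∈ T, g⁻¹ * t * g ∈ T) →
        (∀ a ∈ Z, g * a * g⁻¹ ∈ Z) → ∀ x ∈ C2, g * x * g⁻¹ ∈ C2 := by
      intro g hg hg' hgZ x hx
      refine ⟨hg x hx.1, fun t ht => ?_⟩
      have e : g * x * g⁻¹ * t * (g * x * g⁻¹)⁻¹ * t⁻¹
          = g * (x * (g⁻¹ * t * g) * x⁻¹ * (g⁻¹ * t * g)⁻¹) * g⁻¹ := by group
      rw [e]
      exact hgZ _ (hx.2 _ (hg' t ht))
    have hder : ∀ x ∈ C2, ∀ y ∈ ⁅T, T⁆, x * y = y * x := by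
      intro x hx y hy
      have hle : ⁅T, T⁆ ≤ Subgroup.centralizer ({x} : Set S) := by
        rw [Subgroup.commutator_le]
        intro t ht s hs
        rw [Subgroup.mem_centralizer_singleton_iff]
        obtain ⟨-, hz1⟩ := hmemZ.1 (hx.2 t ht)
        obtain ⟨-, hz2⟩ := hmemZ.1 (hx.2 s hs)
        set z1 := x * t * x⁻¹ * t⁻¹ with e1
        set z2 := x * s * x⁻¹ * s⁻¹ with e2
        have hz12 : z1 * z2 = z2 * z1 := hz2 z1 (hx.2 t ht).1
        have e3 : x * ⁅t, s⁆ * x⁻¹ = ⁅z1 * t, z2 * s⁆ := by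
          rw [e1, e2]; simp only [commutatorElement_def]; group
        have e4 : ⁅z1 * t, z2 * s⁆ = ⁅t, s⁆ := by
          simp only [commutatorElement_def, mul_inv_rev]
          calc z1 * t * (z2 * s) * (t⁻¹ * z1⁻¹) * (s⁻¹ * z2⁻¹)
              = z1 * (t * z2) * s * t⁻¹ * z1⁻¹ * (s⁻¹ * z2⁻¹) := by group
            _ = z1 * (z2 * t) * s * t⁻¹ * z1⁻¹ * (s⁻¹ * z2⁻¹) := by rw [hz2 t ht]
            _ = z1 * z2 * ((t * s * t⁻¹) * z1⁻¹) * (s⁻¹ * z2⁻¹) := by group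
            _ = z1 * z2 * (z1⁻¹ * (t * s * t⁻¹)) * (s⁻¹ * z2⁻¹) := by
                rw [((show Commute (t * s * t⁻¹) z1 from
                  hz1 _ (mul_mem (mul_mem ht hs) (inv_mem ht))).inv_right).eq]
            _ = z1 * z2 * z1⁻¹ * ((t * s * t⁻¹ * s⁻¹) * z2⁻¹) := by group
            _ = z1 * z2 * z1⁻¹ * (z2⁻¹ * (t * s * t⁻¹ * s⁻¹)) := by
                rw [((show Commute (t * s * t⁻¹ * s⁻¹) z2 from
                  hz2 _ (mul_mem (mul_mem (mul_mem ht hs) (inv_mem ht)) (inv_mem hs))).inv_right).eq]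
            _ = t * s * t⁻¹ * s⁻¹ := by rw [hz12]; group
        rw [e4] at e3
        exact (mul_inv_eq_iff_eq_mul.1 e3).symm
      exact (Subgroup.mem_centralizer_singleton_iff.1 (hle hy)).symm
    have hTTn : ∀ g : S, (∀ t ∈ T, g * t * g⁻¹ ∈ T) → ∀ y ∈ ⁅T, T⁆, g * y * g⁻¹ ∈ ⁅T, T⁆ := by
      intro g hg y hy
      refine (show ⁅T, T⁆ ≤ ⁅T, T⁆.comap (MulAut.conj g).toMonoidHom from ?_) hy
      rw [Subgroup.commutator_le]
      intro t ht s hs
      rw [Subgroup.mem_comap]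
      show MulAut.conj g ⁅t, s⁆ ∈ _
      rw [map_commutatorElement]
      exact Subgroup.commutator_mem_commutator (hg t ht) (hg s hs)
    have hN : ∀ y ∈ ⁅T, T⁆ ⊓ C2, y = 1 ∨ y = ζ := habel (⁅T, T⁆ ⊓ C2)
      (fun y hy => hy.2.1) (fun y hy y' hy' => hder y hy.2 y' hy'.1)
      (fun r hr y hy => ⟨hTTn r (hRT r hr) y hy.1,
        hC2n r (hRT r hr) (hRT'' r hr) (hAR0 r hr) y hy.2⟩)
      (fun y hy => ⟨hTTn b hbT y hy.1, hC2n b hbT hbT' hAb0 y hy.2⟩)
    have hTT : ⁅T, T⁆ ≤ Z := by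
      by_contra hne
      set q := QuotientGroup.mk' (Subgroup.center T) with hq
      haveI : Group.IsNilpotent T := hT.isNilpotent
      set D := (commutator T).map q with hD
      haveI : D.Normal := Subgroup.Normal.map inferInstance q (QuotientGroup.mk'_surjective _)
      have hmap : (commutator T).map T.subtype = ⁅T, T⁆ := Subgroup.map_subtype_commutator T
      have hDne : D ≠ ⊥ := by
        intro e
        rw [hD, Subgroup.map_eq_bot_iff, hq, QuotientGroup.ker_mk'] at e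
        apply hne
        rw [← hmap]
        rintro _ ⟨y, hy, rfl⟩
        exact hmemZ.2 ⟨y.2, fun t ht =>
          congrArg Subtype.val (Subgroup.mem_center_iff.1 (e hy) ⟨t, ht⟩)⟩
      obtain ⟨⟨d, hd, hdc⟩, hd1'⟩ := Subgroup.ne_bot_iff_exists_ne_one.1
        (CfsgLib.Solvable.inf_center_ne_bot hDne)
      have hd1 : d ≠ 1 := fun e => hd1' (Subtype.ext e)
      obtain ⟨y, hy, rfl⟩ := hd
      apply hd1
      rw [hq, QuotientGroup.mk'_apply, QuotientGroup.eq_one_iff]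
      have hyC : (y : S) ∈ C2 := by
        refine ⟨y.2, fun t ht => ?_⟩
        have h1 := Subgroup.mem_center_iff.1 hdc (q ⟨t, ht⟩)
        have h2 : q (y * ⟨t, ht⟩ * y⁻¹ * ⟨t, ht⟩⁻¹) = 1 := by
          rw [map_mul, map_mul, map_mul, map_inv, map_inv, ← h1]
          group
        rw [hq, QuotientGroup.mk'_apply, QuotientGroup.eq_one_iff] at h2
        exact hmemZ.2 ⟨mul_mem (mul_mem (mul_mem y.2 ht) (inv_mem y.2)) (inv_mem ht),
          fun s hs => congrArg Subtype.val (Subgroup.mem_center_iff.1 h2 ⟨s, hs⟩)⟩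
      rw [Subgroup.mem_center_iff]
      intro t
      apply Subtype.ext
      show (t : S) * y = y * t
      rcases hN y ⟨hmap ▸ ⟨y, hy, rfl⟩, hyC⟩ with e | e <;> rw [e]
      · rw [mul_one, one_mul]
      · exact (hζt t t.2).symm
    intro x hx
    refine hcen (x * x) (mul_mem hx hx) fun t ht => ?_
    set c := x * t * x⁻¹ * t⁻¹ with hc
    have hcZ : c ∈ Z := hTT (by
      have := Subgroup.commutator_mem_commutator (H₁ := T) (H₂ := T) hx ht
      rwa [commutatorElement_def] at this)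
    have hc2 : c * c = 1 := hexp Z inf_le_left hA0 hAR0 hAb0 c hcZ
    have hxt : x * t = c * t * x := by rw [hc]; group
    calc x * x * t = x * (c * t * x) := by rw [mul_assoc, hxt]
      _ = x * c * t * x := by group
      _ = c * (x * t) * x := by rw [(hmemZ.1 hcZ).2 x hx]; group
      _ = c * (c * t * x) * x := by rw [hxt]
      _ = c * c * t * x * x := by group
      _ = t * (x * x) := by rw [hc2, one_mul, mul_assoc]
  have hext : Cfsg.IsExtraspecial 2 ↥T := isExtraspecial_of hT hζT hζ2 hζ1 hζt hsq hcen hnc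
  have hconjζ : ∀ w ∈ T, ∀ t ∈ T, w * t ≠ t * w → t * w * t⁻¹ = ζ * w := by
    intro w hw t ht hne
    have hmem : t * w * t⁻¹ * w⁻¹ ∈ Z := hmemZ.2 ⟨mul_mem (mul_mem (mul_mem ht hw) (inv_mem ht))
      (inv_mem hw), fun s hs => congrArg Subtype.val (Subgroup.mem_center_iff.1
        (CfsgLib.ExtraspecialBasic.commutator_mem_center hext ⟨t, ht⟩ ⟨w, hw⟩) ⟨s, hs⟩)⟩
    rcases hcen _ (hmemZ.1 hmem).1 (fun s hs => ((hmemZ.1 hmem).2 s hs).symm) with e | e
    · exact absurd (mul_inv_eq_iff_eq_mul.1 (mul_inv_eq_one.1 e)).symm hne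
    · exact mul_inv_eq_iff_eq_mul.1 e
  obtain ⟨x0, hx0, hx0sq⟩ : ∃ x ∈ T, x * x = ζ := by
    by_contra hall
    push Not at hall
    have hinv : ∀ x ∈ T, x * x = 1 := fun x hx => (hsq x hx).resolve_right (hall x hx)
    obtain ⟨x, hx, y, hy, hxy⟩ := hnc
    refine hxy ?_
    calc x * y = x * y * ((y * x) * (y * x)) := by rw [hinv _ (mul_mem hy hx), mul_one]
      _ = x * (y * y) * x * (y * x) := by group
      _ = y * x := by rw [hinv y hy, mul_one, hinv x hx, one_mul]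
  exact ⟨T, ζ, hTR, hT, hRT, hRT'', hbT, hCT, hTmax, hζT, hζ2, hζ1, hζt, hζb, hζR, hζn, hsq, hcen,
    hnc, hext, hconjζ, x0, hx0, hx0sq⟩

end Data

end CfsgLib.FGS74.Cubic
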