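import Cfsg.Agent.FGS74.Cubic.Setup

/-!
# The subgroups of order four and eight
-/

set_option autoImplicit false
set_option linter.style.haveILetI false
set_option linter.unusedSectionVars false

namespace CfsgLib.FGS74.Cubic

variable {S : Type*} [Group S] [Finite S] {E : Type*} [AddCommGroup E] [Module (ZMod 3) E]
  [Finite E]

theorem comm_of_sq {H : Subgroup S} (hsq : ∀ a ∈ H, a * a = 1) {a c : S} (ha : a ∈ H)
    (hc : c ∈ H) : a * c = c * a := by
  calc a * c = a * c * ((c * a) * (c * a)) := by rw [hsq _ (mul_mem hc ha), mul_one]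
    _ = a * (c * c) * a * (c * a) := by group
    _ = c * a := by rw [hsq c hc, mul_one, hsq a ha, one_mul]

theorem FourAct.card_grp {b u v : S} (hF : FourAct b u v) (hu1 : u ≠ 1) :
    Nat.card hF.grp = 4 := by
  classical
  have e : ∀ x, x ∈ hF.grp ↔ x ∈ ({1, u, v, u * v} : Finset S) := by
    intro x
    rw [hF.mem_grp]
    simp [Finset.mem_insert]
  rw [Nat.card_congr (Equiv.subtypeEquivRight e), Nat.card_eq_finsetCard,
    Finset.card_insert_of_notMem, Finset.card_insert_of_notMem, Finset.card_pair]
  · intro e'; exact hu1 (right_eq_mul.1 e')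
  · simp only [Finset.mem_insert, Finset.mem_singleton, not_or]
    exact ⟨hF.ne_uv hu1, fun e' => hF.v_ne_one hu1 (left_eq_mul.1 e')⟩
  · simp only [Finset.mem_insert, Finset.mem_singleton, not_or]
    exact ⟨Ne.symm hu1, Ne.symm (hF.v_ne_one hu1), fun e' => hF.ne_uv hu1 (by
      rw [← inv_eq_of_mul_eq_one_right hF.uu]
      exact inv_eq_of_mul_eq_one_right e'.symm)⟩

theorem FourAct.fixed_eq_one {b u v : S} (hF : FourAct b u v) (hu1 : u ≠ 1) {x : S}
    (hx : x ∈ hF.grp) (hxb : x * b = b * x) : x = 1 := by
  have hmove : b * x * b⁻¹ = x := by rw [← hxb, mul_inv_cancel_right]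
  rcases hF.mem_grp.1 hx with e | e | e | e <;> subst e
  · rfl
  · rw [hF.bu] at hmove
    exact absurd hmove.symm (hF.ne_uv hu1)
  · rw [hF.bv, mul_eq_right] at hmove
    exact absurd hmove hu1
  · rw [hF.mul_buv, mul_inv_cancel_right, left_eq_mul] at hmove
    exact absurd hmove (hF.v_ne_one hu1)

variable {σ : S →* Module.End (ZMod 3) E} {R : Subgroup S} {b u v : S}

theorem Data.grp_le (h : Data σ R b u v) {H : Subgroup S} (hu : u ∈ H) (hv : v ∈ H) :
    h.four.grp ≤ H := by
  intro x hx
  rcases h.four.mem_grp.1 hx with rfl | rfl | rfl | rfl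
  · exact one_mem _
  · exact hu
  · exact hv
  · exact mul_mem hu hv

/-- A four-group with a central involution spans an elementary abelian group of order eight. -/
theorem Data.exists_eight (h : Data σ R b u v) {z : S} (hzR : z ∈ R) (hz2 : z * z = 1)
    (hz1 : z ≠ 1) (hzb : z * b = b * z) (hzc : ∀ r ∈ R, z * r = r * z) :
    ∃ A : Subgroup S, A ≤ R ∧ Nat.card A = 8 ∧ (∀ a ∈ A, a * a = 1) ∧
      ∀ H : Subgroup S, u ∈ H → v ∈ H → z ∈ H → A ≤ H := by
  have hgR : h.four.grp ≤ R := h.grp_le h.uR h.vR
  have hzg : z ∉ h.four.grp := fun hm => hz1 (h.four.fixed_eq_one h.u1 hm hzb)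
  let A : Subgroup S :=
    { carrier := {x | x ∈ h.four.grp ∨ z * x ∈ h.four.grp}
      one_mem' := Or.inl (one_mem _)
      mul_mem' := by
        rintro x y (hx | hx) (hy | hy)
        · exact Or.inl (mul_mem hx hy)
        · refine Or.inr ?_
          rw [← mul_assoc, hzc x (hgR hx), mul_assoc]
          exact mul_mem hx hy
        · refine Or.inr ?_
          rw [← mul_assoc]
          exact mul_mem hx hy
        · refine Or.inl ?_
          have e : x * y = (z * x) * (z * y) := by
            have hxR : x ∈ R := by
              have := R.mul_mem (inv_mem hzR) (hgR hx)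
              rwa [inv_mul_cancel_left] at this
            rw [show z * x * (z * y) = z * (x * z) * y by group, ← hzc x hxR, ← mul_assoc, hz2,
              one_mul]
          rw [e]
          exact mul_mem hx hy
      inv_mem' := by
        rintro x (hx | hx)
        · exact Or.inl (inv_mem hx)
        · refine Or.inr ?_
          have h1 : (z * x)⁻¹ = z * x⁻¹ := by
            have hxR : x⁻¹ ∈ R := by
              have := R.mul_mem (inv_mem hzR) (hgR hx)
              rw [inv_mul_cancel_left] at this
              exact inv_mem this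
            rw [mul_inv_rev, inv_eq_of_mul_eq_one_right hz2, hzc _ hxR]
          rw [← h1]
          exact inv_mem hx }
  have hAR : A ≤ R := by
    rintro x (hx | hx)
    · exact hgR hx
    · have := R.mul_mem (inv_mem hzR) (hgR hx)
      rwa [inv_mul_cancel_left] at this
  refine ⟨A, hAR, ?_, ?_, ?_⟩
  · have hs : (A : Set S) = (h.four.grp : Set S) ∪ (fun g => z * g) '' (h.four.grp : Set S) := by
      ext x
      constructor
      · rintro (hx | hx)
        · exact Or.inl hx
        · exact Or.inr ⟨z * x, hx, by show z * (z * x) = x; rw [← mul_assoc, hz2, one_mul]⟩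
      · rintro (hx | ⟨g, hg, rfl⟩)
        · exact Or.inl hx
        · refine Or.inr ?_
          show z * (z * g) ∈ h.four.grp
          rwa [← mul_assoc, hz2, one_mul]
    have hd : Disjoint (h.four.grp : Set S) ((fun g => z * g) '' (h.four.grp : Set S)) := by
      rw [Set.disjoint_left]
      rintro x hx ⟨g, hg, rfl⟩
      apply hzg
      have := mul_mem hx (inv_mem hg)
      rwa [mul_inv_cancel_right] at this
    have h4 : (h.four.grp : Set S).ncard = 4 := by
      rw [← Nat.card_coe_set_eq]; exact h.four.card_grp h.u1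
    show Nat.card (A : Set S) = 8
    rw [Nat.card_coe_set_eq, hs, Set.ncard_union_eq hd (Set.toFinite _) (Set.toFinite _),
      Set.ncard_image_of_injective _ (fun a c e => mul_left_cancel e), h4]
  · rintro x (hx | hx)
    · exact h.four.sq_grp hx
    · have hxR : x ∈ R := hAR (Or.inr hx)
      have := h.four.sq_grp hx
      rwa [show z * x * (z * x) = z * (x * z) * x by group, ← hzc x hxR, ← mul_assoc, hz2,
        one_mul] at this
  · intro H hu hv hz x hx
    rcases hx with hx | hx
    · exact h.grp_le hu hv hx
    · have := H.mul_mem hz (h.grp_le hu hv hx)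
      rwa [← mul_assoc, hz2, one_mul] at this

end CfsgLib.FGS74.Cubic
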