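import Cfsg.Agent.FGS74.Cubic.Extra

/-!
# The case without noncentral abelian normal subgroups: dimension four
-/

set_option autoImplicit false
set_option linter.style.haveILetI false
set_option linter.unusedSectionVars false
set_option linter.unusedTactic false

namespace CfsgLib.FGS74.Cubic

open Module (finrank)
open Subgroup (zpowers)
open scoped commutatorElement

variable {S : Type*} [Group S] [Finite S] {E : Type*} [AddCommGroup E] [Module (ZMod 3) E]
  [Finite E]

namespace Data

variable {σ : S →* Module.End (ZMod 3) E} {R : Subgroup S} {b u v : S} (h : Data σ R b u v)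
include h

theorem finrank_four {T : Subgroup S} {ζ : S} (hC : ECore σ R b T ζ) :
    finrank (ZMod 3) ↥(commR σ R) = 4 := by
  obtain ⟨hTR, hT, hRT, hRT'', hbT, hCT, hTmax, hζT, hζ2, hζ1, hζt, hζb, hζR, hζn, hsq, hcen,
    hnc, hext, hconjζ, x0, hx0, hx0sq⟩ := hC
  have hconjT : ∀ g : S, (∀ t ∈ T, g⁻¹ * t * g ∈ T) → ∀ {x : S}, (∀ t ∈ T, t * x = x * t) →
      ∀ t ∈ T, t * (g * x * g⁻¹) = g * x * g⁻¹ * t := by
    intro g hg x hx t ht
    calc t * (g * x * g⁻¹) = g * ((g⁻¹ * t * g) * x) * g⁻¹ := by group
      _ = g * (x * (g⁻¹ * t * g)) * g⁻¹ := by rw [hx _ (hg t ht)]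
      _ = g * x * g⁻¹ * t := by group
  -- a commutator with `b` outside the centre
  obtain ⟨x, hxT, hxZ⟩ : ∃ x ∈ T, ¬ (x * b * x⁻¹ * b⁻¹ = 1 ∨ x * b * x⁻¹ * b⁻¹ = ζ) := by
    by_contra hall
    push Not at hall
    have hbcent : ∀ t ∈ T, t * b = b * t := by
      intro t ht
      rcases hall t ht with e | e
      · exact mul_inv_eq_iff_eq_mul.1 (mul_inv_eq_one.1 e)
      · exfalso
        apply hζ1
        have h1 : t * b * t⁻¹ = ζ * b := mul_inv_eq_iff_eq_mul.1 e
        have h2 : (t * b * t⁻¹) ^ 3 = 1 := by
          rw [conj_pow, h.b3, mul_one, mul_inv_cancel]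
        rw [h1, (show Commute ζ b from hζb).mul_pow, h.b3, mul_one, pow_succ, pow_two, hζ2,
          one_mul] at h2
        exact h2
    have hRc : R ≤ Subgroup.centralizer (T : Set S) :=
      h.b_mem_of_normalized (Subgroup.mem_centralizer_iff.2 hbcent) fun r hr g hg => by
        rw [Subgroup.mem_centralizer_iff] at hg ⊢
        exact hconjT r (hRT'' r hr) hg
    obtain ⟨p, hp, q, hq, hpq⟩ := hnc
    exact hpq (Subgroup.mem_centralizer_iff.1 (hRc (hTR hq)) p hp)
  set c := x * b * x⁻¹ * b⁻¹ with hc
  have hcT : c ∈ T := by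
    rw [hc, mul_assoc x b x⁻¹, mul_assoc x]
    exact mul_mem hxT (hbT _ (inv_mem hxT))
  set c' := b * c * b⁻¹ with hc'
  have hc'T : c' ∈ T := hbT c hcT
  have hprod : c * c' * (b * c' * b⁻¹) = 1 := by
    calc c * c' * (b * c' * b⁻¹) = x * b ^ 3 * x⁻¹ * (b ^ 3)⁻¹ := by rw [hc', hc, pow_three']; group
      _ = 1 := by rw [h.b3]; group
  have hc1 : c ≠ 1 := fun e => hxZ (Or.inl e)
  have hcζ : c ≠ ζ := fun e => hxZ (Or.inr e)
  have h4 : finrank (ZMod 3) ↥(commR σ R) = 4 := by
    have hne3 := h.finrank_ne_three (hTR hx0) (by rw [hx0sq]; exact hζn)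
    have h3 := h.three_le
    suffices finrank (ZMod 3) ↥(commR σ R) ≤ 4 by omega
    rcases hsq c hcT with hcc | hcc
    · -- an involution
      have hc'2 : c' * c' = 1 := by
        rw [hc', show b * c * b⁻¹ * (b * c * b⁻¹) = b * (c * c) * b⁻¹ by group, hcc, mul_one,
          mul_inv_cancel]
      have hc''2 : b * c' * b⁻¹ * (b * c' * b⁻¹) = 1 := by
        rw [show b * c' * b⁻¹ * (b * c' * b⁻¹) = b * (c' * c') * b⁻¹ by group, hc'2, mul_one,
          mul_inv_cancel]
      have hc'' : b * c' * b⁻¹ = (c * c')⁻¹ := (inv_eq_of_mul_eq_one_right hprod).symm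
      have hcc' : (c * c') * (c * c') = 1 := by
        have := hc''2
        rw [hc'', ← mul_inv_rev, inv_eq_one] at this
        exact this
      have hF : FourAct b c c' :=
        { uu := hcc
          comm := by
            calc c * c' = c * c' * ((c' * c) * (c' * c)) := by
                  rw [show (c' * c) * (c' * c) = c' * ((c * c') * (c * c')) * c'⁻¹ by group, hcc',
                    mul_one, mul_inv_cancel, mul_one]
              _ = c * (c' * c') * c * (c' * c) := by group
              _ = c' * c := by rw [hc'2, mul_one, hcc, one_mul]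
          bu := rfl
          bv := by rw [hc'']; exact inv_eq_of_mul_eq_one_right hcc' }
      have hw1 := hF.finrank_W σ h.rank
      obtain ⟨t, ht, hct⟩ : ∃ t ∈ T, c * t ≠ t * c := by
        by_contra hall
        push Not at hall
        rcases hcen c hcT hall with e | e
        · exact hc1 e
        · exact hcζ e
      have hconj := hconjζ c hcT t ht hct
      have hu2 : finrank (ZMod 3) ↥(comm σ c) ≤ 2 :=
        (Submodule.finrank_mono (hF.comm_u_le σ)).trans
          ((Submodule.finrank_add_le_finrank_add_finrank _ _).trans (Nat.add_le_add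
            ((Submodule.finrank_map_le _ _).trans hw1) ((Submodule.finrank_map_le _ _).trans hw1)))
      have hle : commR σ R ≤ comm σ c ⊔ (comm σ c).map (σ t) := by
        intro y hy
        have e : y = -((y - σ (ζ * c) y) + (y - σ c y)) := by
          rw [mul_apply, hζn _ (h.R_commR (hTR hcT) hy),
            show y - -σ c y + (y - σ c y) = y + y by abel, add_self, neg_neg]
        rw [e]
        refine neg_mem (add_mem (Submodule.mem_sup_right ?_) (Submodule.mem_sup_left ?_))
        · refine ⟨-(σ c (σ t⁻¹ y) - σ t⁻¹ y), neg_mem (sub_mem_comm σ c _), ?_⟩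
          rw [← hconj, mul_apply σ (t * c), mul_apply σ t c, map_neg, map_sub, apply_inv_apply, neg_sub]
        · rw [← neg_sub]
          exact neg_mem (sub_mem_comm σ c y)
      exact (Submodule.finrank_mono hle).trans ((Submodule.finrank_add_le_finrank_add_finrank _ _).trans
        (Nat.add_le_add hu2 ((Submodule.finrank_map_le _ _).trans hu2)))
    · -- an element of order four
      have hle : commR σ R ≤ (comm σ b).map (σ x) ⊔ comm σ b := by
        intro y hy
        set w := σ c y + y with hw
        have e : y = σ c w - w := by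
          rw [hw, map_add, ← mul_apply, hcc, hζn y hy,
            show -y + σ c y - (σ c y + y) = -(y + y) by abel, add_self, neg_neg]
        rw [e, show σ c w - w = (σ x (σ b (σ x⁻¹ (σ b⁻¹ w))) - σ x (σ x⁻¹ (σ b⁻¹ w)))
            + (σ b⁻¹ w - w) by
          rw [apply_inv_apply, hc, mul_apply, mul_apply, mul_apply]; abel]
        refine add_mem (Submodule.mem_sup_left ?_) (Submodule.mem_sup_right ?_)
        · rw [← map_sub]
          exact Submodule.mem_map_of_mem (sub_mem_comm σ b _)
        · have := neg_mem (sub_mem_comm σ b (σ b⁻¹ w))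
          rwa [apply_inv_apply, neg_sub] at this
      exact (Submodule.finrank_mono hle).trans ((Submodule.finrank_add_le_finrank_add_finrank _ _).trans
        (Nat.add_le_add ((Submodule.finrank_map_le _ _).trans h.rank) h.rank))
  exact h4

end Data

end CfsgLib.FGS74.Cubic
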