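import Cfsg.Agent.FGS74.Cubic.ExtraDim

/-!
# The case without noncentral abelian normal subgroups: the order of `R`
-/

set_option autoImplicit false
set_option linter.style.haveILetI false
set_option linter.unusedSectionVars false
set_option linter.unusedTactic false

namespace CfsgLib.FGS74.Cubic

open Module (finrank)
open Subgroup (zpowers)
open scoped commutatorElement

variable {S : Type*} [Group S] [Finite S] {E : Type*} [AddCommGroup E] [Module (ZMod 3) E]
  [Finite E]

theorem cube_mod_five {i : ℕ} (h : i ^ 3 % 5 = 1) : i % 5 = 1 := by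
  rw [Nat.pow_mod] at h
  have key : ∀ j, j < 5 → j ^ 3 % 5 = 1 → j = 1 := by decide
  exact key _ (Nat.mod_lt i (by norm_num)) h

theorem thirteen_count {C n : ℕ} (hn : n = 8 ∨ n = 32) (hC : C ∣ n) (hm : n ≡ C [MOD 13]) :
    C = n := by
  have k8 : ∀ j, j < 9 → j ∣ 8 → 8 % 13 = j % 13 → j = 8 := by decide
  have k32 : ∀ j, j < 33 → j ∣ 32 → 32 % 13 = j % 13 → j = 32 := by decide
  rcases hn with rfl | rfl
  · exact k8 C (Nat.lt_succ_of_le (Nat.le_of_dvd (by norm_num) hC)) hC hm
  · exact k32 C (Nat.lt_succ_of_le (Nat.le_of_dvd (by norm_num) hC)) hC hm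

namespace Data

variable {σ : S →* Module.End (ZMod 3) E} {R : Subgroup S} {b u v : S} (h : Data σ R b u v)
include h

theorem card_core {T : Subgroup S} {ζ : S} (hC : ECore σ R b T ζ)
    (h4 : finrank (ZMod 3) ↥(commR σ R) = 4) : Nat.card T = 8 ∨ Nat.card T = 32 := by
  classical
  haveI : Fact (Nat.Prime 2) := ⟨Nat.prime_two⟩
  obtain ⟨hTR, hT, hRT, hRT'', hbT, hCT, hTmax, hζT, hζ2, hζ1, hζt, hζb, hζR, hζn, hsq, hcen,
    hnc, hext, hconjζ, x0, hx0, hx0sq⟩ := hC
  -- the order of `T`
  have hc32 : Nat.card T = 8 ∨ Nat.card T = 32 := by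
    obtain ⟨n, hn1, hn⟩ := CfsgLib.ExtraspecialBasic.exists_card_eq hext
    have hle : Nat.card T ≤ 32 := by
      let rep : T ⧸ Subgroup.center T → ↥h.G := fun i => ⟨(i.out : T), h.mem_G (hTR i.out.2)⟩
      have hTG : ∀ t : T, (t : S) ∈ h.G := fun t => h.mem_G (hTR t.2)
      let cc : T → T ⧸ Subgroup.center T → ZMod 3 := fun a i =>
        if (a : S) * (i.out : T) = (i.out : T) * a then 1 else -1
      let f : T → Module.End (ZMod 3) (Module.End (ZMod 3) ↥(commR σ R)) := fun a =>
        (LinearMap.mulLeft (ZMod 3) (h.res ⟨a, hTG a⟩)).comp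
          (LinearMap.mulRight (ZMod 3) (h.res ⟨a, hTG a⟩⁻¹))
      have hli := linearIndependent_of_joint_eigen f (fun i => h.res (rep i)) cc (fun i e => by
        obtain ⟨y, hy, hy0⟩ := (Submodule.ne_bot_iff (commR σ R)).1 (fun e' => by
          have h3 := h.three_le
          rw [e', finrank_bot] at h3
          omega)
        have h1 := congrArg Subtype.val (LinearMap.congr_fun e ⟨y, hy⟩)
        exact hy0 (apply_injective σ _ ((h1 : σ ((i.out : T) : S) y = 0).trans (map_zero _).symm)))
        (fun a i => by
          show h.res ⟨a, hTG a⟩ * (h.res (rep i) * h.res ⟨a, hTG a⟩⁻¹) = cc a i • h.res (rep i)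
          rw [← map_mul, ← map_mul, ← mul_assoc]
          refine LinearMap.ext fun y => Subtype.ext ?_
          rw [h.res_apply, LinearMap.smul_apply, Submodule.coe_smul, h.res_apply]
          show σ ((a : S) * (i.out : T) * (a : S)⁻¹) (y : E) = cc a i • σ ((i.out : T) : S) y
          by_cases hai : (a : S) * (i.out : T) = (i.out : T) * a
          · rw [show cc a i = 1 from if_pos hai, one_smul, hai, mul_inv_cancel_right]
          · rw [show cc a i = -1 from if_neg hai, neg_smul, one_smul,
              hconjζ _ i.out.2 _ a.2 (Ne.symm hai), mul_apply,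
              hζn _ (h.R_commR (hTR i.out.2) y.2)])
        (fun i j hij => by
          by_contra hall
          push Not at hall
          apply hij
          rw [← i.out_eq', ← j.out_eq', QuotientGroup.eq, Subgroup.mem_center_iff]
          intro a
          have hca := hall a
          apply Subtype.ext
          show (a : S) * (((i.out : T) : S)⁻¹ * (j.out : T))
            = ((i.out : T) : S)⁻¹ * (j.out : T) * a
          by_cases hai : (a : S) * (i.out : T) = (i.out : T) * a
          · have haj : (a : S) * (j.out : T) = (j.out : T) * a := by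
              by_contra haj
              rw [show cc a i = 1 from if_pos hai, show cc a j = -1 from if_neg haj] at hca
              exact absurd hca (by decide)
            exact ((show Commute (a : S) (i.out : T) from hai).inv_right.mul_right haj).eq
          · have haj : ¬ (a : S) * (j.out : T) = (j.out : T) * a := by
              intro haj
              rw [show cc a i = -1 from if_neg hai, show cc a j = 1 from if_pos haj] at hca
              exact absurd hca (by decide)
            have e1 := hconjζ _ i.out.2 _ a.2 (Ne.symm hai)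
            have e2 := hconjζ _ j.out.2 _ a.2 (Ne.symm haj)
            calc (a : S) * (((i.out : T) : S)⁻¹ * (j.out : T))
                = ((a : S) * (i.out : T) * (a : S)⁻¹)⁻¹ * ((a : S) * (j.out : T) * (a : S)⁻¹) * a := by
                  group
              _ = _ := by rw [e1, e2]; group)
      haveI := Fintype.ofFinite (T ⧸ Subgroup.center T)
      have := hli.fintype_card_le_finrank
      rw [Module.finrank_linearMap, h4, ← Nat.card_eq_fintype_card] at this
      rw [Subgroup.card_eq_card_quotient_mul_card_subgroup (Subgroup.center T), hext.2]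
      omega
    have : n ≤ 2 := by
      by_contra hlt
      have : 2 ^ 7 ≤ 2 ^ (2 * n + 1) := Nat.pow_le_pow_right two_pos (by omega)
      omega
    interval_cases n <;> simp_all
  exact hc32

theorem isPGroup_two {T : Subgroup S} {ζ : S} (hC : ECore σ R b T ζ)
    (h4 : finrank (ZMod 3) ↥(commR σ R) = 4) (hc32 : Nat.card T = 8 ∨ Nat.card T = 32) :
    IsPGroup 2 R := by
  haveI : Fact (Nat.Prime 2) := ⟨Nat.prime_two⟩
  obtain ⟨hTR, hT, hRT, hRT'', hbT, hCT, hTmax, hζT, hζ2, hζ1, hζt, hζb, hζR, hζn, hsq, hcen,
    hnc, hext, hconjζ, x0, hx0, hx0sq⟩ := hC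
  have hR2 : IsPGroup 2 R := by
    intro r
    refine ⟨(Nat.card R).factorization 2, ?_⟩
    have hdvd := h.card_dvd_GL h4
    have hno : ∀ q : ℕ, q.Prime → q ∣ Nat.card R → q = 2 := by
      intro q hq hqR
      have hq' : q = 2 ∨ q = 3 ∨ q = 5 ∨ q = 13 := by
        have h1 : q ∣ 2 ^ 9 * 3 ^ 6 * 5 * 13 := (hqR.trans hdvd).trans (by norm_num)
        have := fun p (hp : p.Prime) k => fun (hd : q ∣ p ^ k) =>
          (Nat.prime_dvd_prime_iff_eq hq hp).1 (hq.dvd_of_dvd_pow hd)
        rcases hq.dvd_mul.1 h1 with h1 | h1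
        rcases hq.dvd_mul.1 h1 with h1 | h1
        rcases hq.dvd_mul.1 h1 with h1 | h1
        · exact Or.inl (this 2 Nat.prime_two 9 h1)
        · exact Or.inr (Or.inl (this 3 Nat.prime_three 6 h1))
        · exact Or.inr (Or.inr (Or.inl ((Nat.prime_dvd_prime_iff_eq hq (by norm_num)).1 h1)))
        · exact Or.inr (Or.inr (Or.inr ((Nat.prime_dvd_prime_iff_eq hq (by norm_num)).1 h1)))
      rcases hq' with rfl | rfl | rfl | rfl
      · rfl
      · exact absurd hqR (Nat.prime_three.coprime_iff_not_dvd.1 h.cop.symm)
      · exfalso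
        haveI : Fact (Nat.Prime 5) := ⟨hq⟩
        haveI := h.solv
        have hb3' : Nat.card (zpowers b) ∣ 3 := by
          rw [Nat.card_zpowers]; exact orderOf_dvd_of_pow_eq_one h.b3
        obtain ⟨P, hP⟩ := CfsgLib.Coprime.exists_invariant_sylow (A := zpowers b) (G := R)
          (Subgroup.zpowers_le.2 (Subgroup.mem_normalizer_fintype h.hbR))
          (h.cop.symm.coprime_dvd_left hb3') (Or.inr h.solv) 5
        set X := (P : Subgroup R).map R.subtype with hX
        have hXc : Nat.card X = 5 := by
          rw [hX, Subgroup.card_map_of_injective R.subtype_injective, P.card_eq_multiplicity]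
          have h2 : (Nat.card R).factorization 5 ≤ 1 := by
            by_contra hlt
            have : 5 ^ 2 ∣ 24261120 := (pow_dvd_pow 5 (by omega)).trans
              ((Nat.ordProj_dvd _ 5).trans hdvd)
            norm_num at this
          have h3 : 1 ≤ (Nat.card R).factorization 5 :=
            (hq.dvd_iff_one_le_factorization Nat.card_pos.ne').1 hqR
          rw [le_antisymm h2 h3, pow_one]
        haveI : Nontrivial X := Finite.one_lt_card_iff_nontrivial.1 (by omega)
        obtain ⟨⟨g, hg⟩, hg1⟩ := exists_ne (1 : X)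
        have hgo : g ^ 5 = 1 := by
          have := pow_card_eq_one' (x := (⟨g, hg⟩ : X))
          rw [hXc] at this
          exact congrArg Subtype.val this
        have hgne : g ≠ 1 := fun e => hg1 (Subtype.ext e)
        have hbg : b * g * b⁻¹ ∈ X :=
          (Subgroup.mem_normalizer_iff.1 (hP (Subgroup.mem_zpowers b)) g).1 hg
        obtain ⟨i, hi⟩ : ∃ i : ℕ, g ^ i = b * g * b⁻¹ := by
          have hgen := zpowers_eq_top_of_prime_card (G := X) hXc hg1
          have : (⟨_, hbg⟩ : X) ∈ Submonoid.powers (⟨g, hg⟩ : X) :=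
            mem_powers_iff_mem_zpowers.2 (hgen ▸ Subgroup.mem_top _)
          obtain ⟨i, hi⟩ := this
          exact ⟨i, congrArg Subtype.val hi⟩
        have hit : ∀ k : ℕ, b ^ k * g * (b ^ k)⁻¹ = g ^ (i ^ k) := by
          intro k
          induction k with
          | zero => simp
          | succ k ihk =>
            rw [pow_succ' b, show b * b ^ k * g * (b * b ^ k)⁻¹ = b * (b ^ k * g * (b ^ k)⁻¹) * b⁻¹
              by group, ihk, ← conj_pow, ← hi, ← pow_mul, pow_succ']
        have h3 := hit 3
        rw [h.b3, one_mul, inv_one, mul_one] at h3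
        have hord : orderOf g = 5 := orderOf_eq_prime hgo hgne
        have hmod : i ^ 3 % 5 = 1 := by
          have := pow_eq_pow_iff_modEq.1 ((pow_one g).trans h3)
          rw [hord] at this
          exact this.symm
        have hi5 : i % 5 = 1 := cube_mod_five hmod
        have hfix : g ^ i = g := by
          conv_lhs => rw [← pow_mod_orderOf, hord, hi5, pow_one]
        rw [hfix] at hi
        exact hgne (h.eq_one_of_five h4 (Subgroup.map_subtype_le _ hg) hgo
          (mul_inv_eq_iff_eq_mul.1 hi.symm).symm)
      · exfalso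
        haveI : Fact (Nat.Prime 13) := ⟨hq⟩
        obtain ⟨⟨g, hgR⟩, hgo⟩ := exists_prime_orderOf_dvd_card' (G := R) 13 hqR
        rw [Subgroup.orderOf_mk] at hgo
        set H := zpowers g with hH
        have hHp : IsPGroup 13 H := IsPGroup.of_card (n := 1)
          (by rw [hH, Nat.card_zpowers, hgo, pow_one])
        letI : MulAction H T :=
          { smul := fun a t => ⟨(a : S) * t * (a : S)⁻¹,
              hRT _ (Subgroup.zpowers_le.2 hgR a.2) _ t.2⟩
            one_smul := fun t => Subtype.ext (by
              show ((1 : H) : S) * t * ((1 : H) : S)⁻¹ = t; simp)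
            mul_smul := fun a c t => Subtype.ext (by
              show ((a * c : H) : S) * t * ((a * c : H) : S)⁻¹
                = (a : S) * ((c : S) * t * (c : S)⁻¹) * (a : S)⁻¹
              rw [Subgroup.coe_mul]; group) }
        have hmod := hHp.card_modEq_card_fixedPoints T
        let C : Subgroup T :=
          { carrier := MulAction.fixedPoints H T
            one_mem' := fun a => Subtype.ext (by
              show (a : S) * ((1 : T) : S) * (a : S)⁻¹ = ((1 : T) : S); simp)
            mul_mem' := fun {s t} hs ht a => Subtype.ext (by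
              have e1 := congrArg Subtype.val (hs a)
              have e2 := congrArg Subtype.val (ht a)
              show (a : S) * ((s : S) * t) * (a : S)⁻¹ = (s : S) * t
              conv_rhs => rw [← e1, ← e2]
              show _ = (a : S) * s * (a : S)⁻¹ * ((a : S) * t * (a : S)⁻¹)
              group)
            inv_mem' := fun {s} hs a => Subtype.ext (by
              have e1 := congrArg Subtype.val (hs a)
              show (a : S) * (s : S)⁻¹ * (a : S)⁻¹ = (s : S)⁻¹
              conv_rhs => rw [← e1]
              show _ = ((a : S) * s * (a : S)⁻¹)⁻¹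
              group) }
        have hCc : Nat.card (MulAction.fixedPoints H T) = Nat.card C := rfl
        rw [hCc] at hmod
        have hCd : Nat.card C ∣ Nat.card T := C.card_subgroup_dvd_card
        have hCT' : Nat.card C = Nat.card T := thirteen_count hc32 hCd hmod
        have hCtop : C = ⊤ := Subgroup.eq_top_of_card_eq _ hCT'
        have hgT : g ∈ T := hCT g hgR fun t ht => by
          have := congrArg Subtype.val ((hCtop ▸ Subgroup.mem_top _ : (⟨t, ht⟩ : T) ∈ C)
            ⟨g, Subgroup.mem_zpowers g⟩)
          exact mul_inv_eq_iff_eq_mul.1 this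
        obtain ⟨k, hk⟩ := IsPGroup.iff_orderOf.1 hT ⟨g, hgT⟩
        rw [Subgroup.orderOf_mk, hgo] at hk
        have : (13 : ℕ) ∣ 2 ^ k := hk ▸ dvd_rfl
        have := (Nat.prime_dvd_prime_iff_eq hq Nat.prime_two).1 (hq.dvd_of_dvd_pow this)
        norm_num at this
    apply orderOf_dvd_iff_pow_eq_one.1
    refine (orderOf_dvd_natCard r).trans ?_
    conv_lhs => rw [Nat.eq_prime_pow_of_unique_prime_dvd Nat.card_pos.ne' (fun {d} hd hd' =>
      hno d hd hd')]
    apply pow_dvd_pow
    apply le_of_eq
    conv_rhs => rw [Nat.eq_prime_pow_of_unique_prime_dvd Nat.card_pos.ne' (fun {d} hd hd' =>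
      hno d hd hd')]
    rw [Nat.Prime.factorization_pow Nat.prime_two, Finsupp.single_eq_same]
  exact hR2

/-- The case without noncentral abelian normal subgroups. -/
theorem extraspecial_case
    (hE : ∀ A : Subgroup S, A ≤ R → (∀ a ∈ A, ∀ a' ∈ A, a * a' = a' * a) →
      (∀ a ∈ A, a * a = 1) → (∀ r ∈ R, ∀ a ∈ A, r * a * r⁻¹ ∈ A) →
      (∀ a ∈ A, b * a * b⁻¹ ∈ A) → ∀ a ∈ A, a * b = b * a) :
    Cfsg.IsExtraspecial 2 ↥R ∧ Nat.card R = 32 ∧
      ∃ z ∈ R, z * z = 1 ∧ z ≠ 1 ∧ z * b = b * z ∧ ∀ r ∈ R, z * r = r * z := by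
  haveI : Fact (Nat.Prime 2) := ⟨Nat.prime_two⟩
  obtain ⟨T, ζ, hC⟩ := h.exists_eCore hE
  have h4 := h.finrank_four hC
  have hc32 := h.card_core hC h4
  have hR2 := h.isPGroup_two hC h4 hc32
  obtain ⟨hTR, hT, hRT, hRT'', hbT, hCT, hTmax, hζT, hζ2, hζ1, hζt, hζb, hζR, hζn, hsq, hcen,
    hnc, hext, hconjζ, x0, hx0, hx0sq⟩ := hC
  have hgR : ∀ a ∈ h.four.grp, a ∈ R := by
    intro a ha
    rcases h.four.mem_grp.1 ha with rfl | rfl | rfl | rfl
    · exact one_mem _
    · exact h.uR
    · exact h.vR
    · exact mul_mem h.uR h.vR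
  have hTR' : T = R := hTmax hR2
  have hc32' : Nat.card R = 32 := by
    rcases hc32 with e | e
    · exfalso
      rw [hTR'] at e
      have hζgrp : ζ ∉ h.four.grp := by
        intro hm
        have hmove : ∀ w : S, w * b = b * w → b * w * b⁻¹ = w := fun w hw => by
          rw [← hw, mul_inv_cancel_right]
        rcases h.four.mem_grp.1 hm with e' | e' | e' | e'
        · exact hζ1 e'
        · have := hmove u (e' ▸ hζb)
          rw [h.four.bu] at this
          exact h.four.ne_uv h.u1 this.symm
        · have := hmove v (e' ▸ hζb)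
          rw [h.four.bv, mul_eq_right] at this
          exact h.u1 this
        · have := hmove (u * v) (e' ▸ hζb)
          rw [h.four.mul_buv, mul_inv_cancel_right, left_eq_mul] at this
          exact h.four.v_ne_one h.u1 this
      have hgc : ∀ a ∈ h.four.grp, ∀ a' ∈ h.four.grp, a * a' = a' * a := fun a ha a' ha' => by
        calc a * a' = a * a' * ((a' * a) * (a' * a)) := by
              rw [h.four.sq_grp (mul_mem ha' ha), mul_one]
          _ = a * (a' * a') * a * (a' * a) := by group
          _ = a' * a := by rw [h.four.sq_grp ha', mul_one, h.four.sq_grp ha, one_mul]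
      let m : h.four.grp × zpowers ζ → R := fun p =>
        ⟨(p.1 : S) * p.2, mul_mem (hgR _ p.1.2) (Subgroup.zpowers_le.2 (hTR hζT) p.2.2)⟩
      have hz : ∀ w ∈ zpowers ζ, w = 1 ∨ w = ζ := by
        intro w hw
        obtain ⟨n, rfl⟩ := Subgroup.mem_zpowers_iff.1 hw
        rcases Int.even_or_odd n with ⟨k, rfl⟩ | ⟨k, rfl⟩
        · exact Or.inl (by rw [zpow_add, ← (Commute.refl ζ).mul_zpow, hζ2, one_zpow])
        · exact Or.inr (by rw [two_mul, zpow_add_one, zpow_add, ← (Commute.refl ζ).mul_zpow, hζ2,
            one_zpow, one_mul])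
      have hm : Function.Injective m := by
        rintro ⟨a, w⟩ ⟨a', w'⟩ he
        have he' : (a : S) * w = a' * w' := congrArg Subtype.val he
        have hw : (w' : S) * (w : S)⁻¹ = (a' : S)⁻¹ * a := by
          calc (w' : S) * (w : S)⁻¹ = (a' : S)⁻¹ * (a' * w') * (w : S)⁻¹ := by group
            _ = (a' : S)⁻¹ * (a * w) * (w : S)⁻¹ := by rw [he']
            _ = (a' : S)⁻¹ * a := by group
        rcases hz _ (mul_mem w'.2 (inv_mem w.2)) with h1 | h1
        · refine Prod.ext (Subtype.ext ?_) (Subtype.ext (mul_inv_eq_one.1 h1).symm)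
          exact (inv_mul_eq_one.1 (hw.symm.trans h1)).symm
        · exact absurd (h1 ▸ hw ▸ mul_mem (inv_mem a'.2) a.2) hζgrp
      have hg4 : 4 ≤ Nat.card h.four.grp := by
        classical
        haveI := Fintype.ofFinite h.four.grp
        have hs : ({1, u, v, u * v} : Finset S).card = 4 := by
          rw [Finset.card_insert_of_notMem, Finset.card_insert_of_notMem, Finset.card_pair]
          · intro e'; exact h.u1 (right_eq_mul.1 e')
          · simp only [Finset.mem_insert, Finset.mem_singleton, not_or]
            exact ⟨h.four.ne_uv h.u1, fun e' => h.four.v_ne_one h.u1 (left_eq_mul.1 e')⟩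
          · simp only [Finset.mem_insert, Finset.mem_singleton, not_or]
            exact ⟨Ne.symm h.u1, Ne.symm (h.four.v_ne_one h.u1), fun e' => h.four.ne_uv h.u1 (by
              rw [← inv_eq_of_mul_eq_one_right h.four.uu]
              exact inv_eq_of_mul_eq_one_right e'.symm)⟩
        rw [← hs, ← Nat.card_eq_finsetCard]
        exact Nat.card_le_card_of_injective
          (fun z => (⟨z.1, by
            obtain ⟨z, hz⟩ := z
            simp only [Finset.mem_insert, Finset.mem_singleton] at hz
            rw [h.four.mem_grp]; tauto⟩ : h.four.grp))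
          (fun z z' e => Subtype.ext (congrArg Subtype.val e :))
      have hz2c : Nat.card (zpowers ζ) = 2 := by
        rw [Nat.card_zpowers]
        exact orderOf_eq_prime (by rw [pow_two, hζ2]) hζ1
      have hms : Function.Surjective m := by
        refine ((Nat.bijective_iff_injective_and_card m).2 ⟨hm, le_antisymm
          (Nat.card_le_card_of_injective m hm) ?_⟩).2
        rw [Nat.card_prod, hz2c, e]
        omega
      have hinv : ∀ r ∈ R, r * r = 1 := by
        intro r hr
        obtain ⟨⟨a, w⟩, haw⟩ := hms ⟨r, hr⟩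
        have : (a : S) * w = r := congrArg Subtype.val haw
        rw [← this]
        rcases hz w w.2 with e' | e' <;> rw [e']
        · rw [mul_one]; exact h.four.sq_grp a.2
        · rw [show (a : S) * ζ * (a * ζ) = a * (ζ * a) * ζ by group, hζR _ (hgR _ a.2),
            ← mul_assoc (a : S), h.four.sq_grp a.2, one_mul, hζ2]
      exact hζ1 (hx0sq.symm.trans (hinv x0 (hTR hx0)))
    · rw [← hTR']; exact e
  exact ⟨hTR' ▸ hext, hc32', ζ, hTR hζT, hζ2, hζ1, hζb, hζR⟩

end Data

end CfsgLib.FGS74.Cubic
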