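import Mathlib
import Cfsg.Agent.Solvable.Basic

/-!
# Solvable transitive permutation groups generated by conjugates of a three-cycle
-/

set_option autoImplicit false

namespace CfsgLib.FGS74.Cubic

variable {Ω : Type*} [Finite Ω]

/-- The degree is three or four. -/
theorem card_three_or_four {H : Subgroup (Equiv.Perm Ω)} [Group.IsSolvable H] {β : Equiv.Perm Ω}
    (hβ : β ∈ H)
    (hgen : ∀ K : Subgroup (Equiv.Perm Ω), β ∈ K → (∀ g ∈ H, ∀ k ∈ K, g * k * g⁻¹ ∈ K) → H ≤ K)
    (htrans : ∀ x y : Ω, ∃ g ∈ H, g x = y) {x0 : Ω} (h0 : β x0 ≠ x0) (h1 : β (β x0) ≠ x0)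
    (h3 : β (β (β x0)) = x0)
    (hmove : ∀ y, β y ≠ y → y = x0 ∨ y = β x0 ∨ y = β (β x0)) :
    Nat.card Ω = 3 ∨ Nat.card Ω = 4 := by
  classical
  haveI := Fintype.ofFinite Ω
  haveI : Nontrivial H := ⟨⟨⟨β, hβ⟩, 1, fun e => h0 (by
    rw [show β = 1 from congrArg Subtype.val e]; rfl)⟩⟩
  obtain ⟨M, hMn, hMne, hMmin⟩ := CfsgLib.Solvable.exists_minimal_normal (G := H)
  haveI := hMn
  haveI hMc := CfsgLib.Solvable.isMulCommutative_of_minimal_normal hMne hMmin
  obtain ⟨p, hp, hMp⟩ := CfsgLib.Solvable.exists_isPGroup_of_minimal_normal hMne hMmin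
  haveI := Fact.mk hp
  -- the orbit relation of `M`
  let rel : Ω → Ω → Prop := fun x y => ∃ m ∈ M, (m : Equiv.Perm Ω) x = y
  have hmoved : ∀ x : Ω, ∃ m ∈ M, (m : Equiv.Perm Ω) x ≠ x := by
    obtain ⟨m, hm1⟩ := Subgroup.ne_bot_iff_exists_ne_one.1 hMne
    obtain ⟨y, hy⟩ : ∃ y, ((m : H) : Equiv.Perm Ω) y ≠ y := by
      by_contra hall
      push Not at hall
      exact hm1 (Subtype.ext (Subtype.ext (Equiv.ext hall)))
    intro x
    obtain ⟨g, hg, rfl⟩ := htrans y x
    refine ⟨⟨g, hg⟩ * (m : H) * ⟨g, hg⟩⁻¹, hMn.conj_mem _ m.2 _, fun e => hy (g.injective ?_)⟩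
    simpa using e
  have hconj : ∀ (g : H) (m : H), m ∈ M → ∀ x, rel ((g : Equiv.Perm Ω) x)
      ((g : Equiv.Perm Ω) ((m : Equiv.Perm Ω) x)) :=
    fun g m hm x => ⟨g * m * g⁻¹, hMn.conj_mem m hm g, by simp⟩
  have rsymm : ∀ x y, rel x y → rel y x := by
    rintro x y ⟨m, hm, rfl⟩
    exact ⟨m⁻¹, inv_mem hm, by simp⟩
  have rtrans : ∀ x y z, rel x y → rel y z → rel x z := by
    rintro x y z ⟨m, hm, rfl⟩ ⟨m', hm', rfl⟩
    exact ⟨m' * m, mul_mem hm' hm, rfl⟩
  have hβrel : ∀ x, rel x (β x) := by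
    intro x
    by_contra hno
    obtain ⟨m, hm, hmx⟩ := hmoved x
    set y := (m : Equiv.Perm Ω) x with hy
    have hxy : rel x y := ⟨m, hm, rfl⟩
    have hbb : rel (β x) (β y) := hconj ⟨β, hβ⟩ m hm x
    have hbx : β x ≠ x := fun e => hno ⟨1, one_mem M, e.symm⟩
    have hby : β y ≠ y := fun e => hno (rtrans _ _ _ hxy (rsymm _ _ (e ▸ hbb)))
    have h13 : y ≠ β x := fun e => hno (e ▸ hxy)
    have h24 : β y ≠ x := fun e => hno (rsymm _ _ (e ▸ hbb))
    have hsub : ({x, y, β x, β y} : Finset Ω) ⊆ {x0, β x0, β (β x0)} := by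
      intro z hz
      simp only [Finset.mem_insert, Finset.mem_singleton] at hz ⊢
      apply hmove
      rcases hz with rfl | rfl | rfl | rfl
      · exact hbx
      · exact hby
      · exact fun e => hbx (β.injective e)
      · exact fun e => hby (β.injective e)
    have hle := Finset.card_le_card hsub
    rw [Finset.card_insert_of_notMem, Finset.card_insert_of_notMem, Finset.card_pair] at hle
    · exact absurd (hle.trans Finset.card_le_three) (by omega)
    · exact fun e => hmx (β.injective e).symm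
    · simp only [Finset.mem_insert, Finset.mem_singleton, not_or]
      exact ⟨h13, fun e => hby e.symm⟩
    · simp only [Finset.mem_insert, Finset.mem_singleton, not_or]
      exact ⟨fun e => hmx e.symm, fun e => hbx e.symm, fun e => h24 e.symm⟩
  let K : Subgroup (Equiv.Perm Ω) :=
    { carrier := {k | k ∈ H ∧ ∀ x, rel x (k x)}
      one_mem' := ⟨one_mem H, fun x => ⟨1, one_mem M, rfl⟩⟩
      mul_mem' := fun {k l} hk hl => ⟨mul_mem hk.1 hl.1, fun x =>
        rtrans _ _ _ (hl.2 x) (hk.2 (l x))⟩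
      inv_mem' := fun {k} hk => ⟨inv_mem hk.1, fun x => by
        have := hk.2 (k⁻¹ x)
        rw [← Equiv.Perm.mul_apply, mul_inv_cancel, Equiv.Perm.one_apply] at this
        exact rsymm _ _ this⟩ }
  have hHK : H ≤ K := hgen K ⟨hβ, hβrel⟩ fun g hg k hk =>
    ⟨mul_mem (mul_mem hg hk.1) (inv_mem hg), fun x => by
      obtain ⟨m, hm, hmx⟩ := hk.2 (g⁻¹ x)
      have := hconj ⟨g, hg⟩ m hm (g⁻¹ x)
      rw [hmx] at this
      simpa using this⟩
  have htM : ∀ x y, rel x y := by
    intro x y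
    obtain ⟨g, hg, rfl⟩ := htrans x y
    exact (hHK hg).2 x
  have hfree : ∀ m ∈ M, ∀ x, (m : Equiv.Perm Ω) x = x → m = 1 := by
    intro m hm x hx
    refine Subtype.ext (Equiv.ext fun y => ?_)
    obtain ⟨m', hm', rfl⟩ := htM x y
    have e : (m : H) * m' = m' * m :=
      congrArg Subtype.val (hMc.is_comm.comm (⟨m, hm⟩ : M) ⟨m', hm'⟩)
    show ((m * m' : H) : Equiv.Perm Ω) x = _
    rw [e]
    show ((m' : H) : Equiv.Perm Ω) ((m : Equiv.Perm Ω) x) = _
    rw [hx]; rfl
  have hcardM : Nat.card M = Nat.card Ω := by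
    refine Nat.card_eq_of_bijective (fun m : M => ((m : H) : Equiv.Perm Ω) x0) ⟨?_, fun y => ?_⟩
    · intro m m' e
      apply inv_mul_eq_one.1 (Subtype.ext (hfree _ (m⁻¹ * m').2 x0 ?_)) 
      simp only [Subgroup.coe_mul, Subgroup.coe_inv, Equiv.Perm.mul_apply] at e ⊢
      rw [← e]; simp
    · obtain ⟨m, hm, e⟩ := htM x0 y
      exact ⟨⟨m, hm⟩, e⟩
  obtain ⟨k, hk⟩ := IsPGroup.iff_card.1 hMp
  have hthree : ({x0, β x0, β (β x0)} : Finset Ω).card = 3 := by
    rw [Finset.card_insert_of_notMem, Finset.card_pair (fun e => h0 (β.injective e).symm)]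
    simp only [Finset.mem_insert, Finset.mem_singleton, not_or]
    exact ⟨Ne.symm h0, Ne.symm h1⟩
  have hfixset : ∀ y, β y = y ↔ y ∉ ({x0, β x0, β (β x0)} : Finset Ω) := by
    intro y
    simp only [Finset.mem_insert, Finset.mem_singleton, not_or]
    constructor
    · intro e
      refine ⟨fun e' => h0 (e' ▸ e), fun e' => ?_, fun e' => ?_⟩
      · subst e'; exact h0 (β.injective e)
      · subst e'; exact h0 (β.injective (β.injective e))
    · intro hne
      by_contra hy
      rcases hmove y hy with e | e | e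
      exacts [hne.1 e, hne.2.1 e, hne.2.2 e]
  have hn : Nat.card {y // β y = y} + 3 = Nat.card Ω := by
    rw [Nat.card_eq_fintype_card, Nat.card_eq_fintype_card, Fintype.card_subtype,
      Finset.filter_congr (fun y _ => hfixset y), ← hthree,
      show Finset.univ.filter (fun y => y ∉ ({x0, β x0, β (β x0)} : Finset Ω))
        = ({x0, β x0, β (β x0)} : Finset Ω)ᶜ by ext; simp]
    exact Finset.card_compl_add_card _
  by_cases hne : IsEmpty {y // β y = y}
  · left
    rw [Nat.card_of_isEmpty] at hn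
    omega
  right
  obtain ⟨⟨x, hx⟩⟩ := not_isEmpty_iff.1 hne
  let C : Subgroup H := M ⊓ Subgroup.centralizer {⟨β, hβ⟩}
  have hcardC : Nat.card C = Nat.card {y // β y = y} := by
    refine Nat.card_eq_of_bijective (fun m : C => ⟨((m : H) : Equiv.Perm Ω) x, ?_⟩) ⟨?_, ?_⟩
    · have e : (m : H) * ⟨β, hβ⟩ = ⟨β, hβ⟩ * m := Subgroup.mem_centralizer_singleton_iff.1 m.2.2
      show ((⟨β, hβ⟩ * (m : H) : H) : Equiv.Perm Ω) x = _
      rw [← e]
      show ((m : H) : Equiv.Perm Ω) (β x) = _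
      rw [hx]
    · intro m m' e
      apply inv_mul_eq_one.1 (Subtype.ext (hfree _ (m⁻¹ * m').2.1 x ?_))
      have e' := congrArg Subtype.val e
      simp only [Subgroup.coe_mul, Subgroup.coe_inv, Equiv.Perm.mul_apply] at e' ⊢
      rw [← e']; simp
    · rintro ⟨y, hy⟩
      obtain ⟨m, hm, e⟩ := htM x y
      refine ⟨⟨m, hm, ?_⟩, Subtype.ext e⟩
      refine Subgroup.mem_centralizer_singleton_iff.2 ?_
      have h2 : ⟨β, hβ⟩ * m * ⟨β, hβ⟩⁻¹ = m := by
        refine inv_mul_eq_one.1 (hfree _ (mul_mem (inv_mem (hMn.conj_mem m hm _)) hm) x ?_)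
        have h3 : β⁻¹ x = x := by conv_lhs => rw [← hx]; simp
        have h4 : β⁻¹ y = y := by conv_lhs => rw [← hy]; simp
        simp only [Subgroup.coe_mul, Subgroup.coe_inv, Equiv.Perm.mul_apply, mul_inv_rev, inv_inv]
        rw [e, h4, ← e]
        simp [h3, hx]
      exact (mul_inv_eq_iff_eq_mul.1 h2).symm
  have hdvd : Nat.card C ∣ Nat.card M := Subgroup.card_dvd_of_le inf_le_left
  rw [hcardC, hcardM] at hdvd
  have h3' : Nat.card {y // β y = y} ∣ 3 := (Nat.dvd_add_right dvd_rfl).1 (hn.symm ▸ hdvd)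
  rcases (Nat.dvd_prime Nat.prime_three).1 h3' with e | e
  · omega
  · exfalso
    have h6 : p ^ k = 6 := by rw [← hk, hcardM]; omega
    have h2 : p = 2 := ((Nat.prime_dvd_prime_iff_eq Nat.prime_two hp).1
      (Nat.prime_two.dvd_of_dvd_pow (h6 ▸ (by norm_num : 2 ∣ 6)))).symm
    have h3'' : p = 3 := ((Nat.prime_dvd_prime_iff_eq Nat.prime_three hp).1
      (Nat.prime_three.dvd_of_dvd_pow (h6 ▸ (by norm_num : 3 ∣ 6)))).symm
    omega

/-- A subgroup of order prime to three normalised by the three-cycle and fixing its fixed points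
is trivial. -/
theorem eq_one_of_fix {X : Subgroup (Equiv.Perm Ω)} (hX : (Nat.card X).Coprime 3)
    {β : Equiv.Perm Ω} (hβX : ∀ g ∈ X, β * g * β⁻¹ ∈ X) {x0 : Ω} (h0 : β x0 ≠ x0)
    (h1 : β (β x0) ≠ x0) (h3 : β (β (β x0)) = x0)
    (hmove : ∀ y, β y ≠ y → y = x0 ∨ y = β x0 ∨ y = β (β x0))
    (hfix : ∀ g ∈ X, ∀ y, β y = y → g y = y) {g : Equiv.Perm Ω} (hg : g ∈ X) : g = 1 := by
  classical
  haveI := Fintype.ofFinite Ω
  have hkey : ∀ k ∈ X, k x0 = x0 := by
    intro k hk
    by_contra hne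
    set O := MulAction.orbit X x0 with hO
    have hmemO : ∀ l ∈ X, l x0 ∈ O := fun l hl => ⟨⟨l, hl⟩, rfl⟩
    have hstep : ∀ y ∈ O, ∀ l ∈ X, l y ∈ O := by
      rintro _ ⟨⟨m, hm⟩, rfl⟩ l hl
      exact hmemO _ (mul_mem hl hm)
    have hnotfix : ∀ l ∈ X, β (l x0) ≠ l x0 := by
      intro l hl e
      have := hfix _ (inv_mem hl) _ e
      rw [← Equiv.Perm.mul_apply, inv_mul_cancel, Equiv.Perm.one_apply] at this
      exact h0 (by rw [← this] at e; exact e)
    have hall : β x0 ∈ O ∧ β (β x0) ∈ O := by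
      have hshift : ∀ l ∈ X, (β * l * β⁻¹) (β x0) = β (l x0) := fun l _ => by simp
      rcases hmove _ (hnotfix k hk) with e | e | e
      · exact absurd e hne
      · refine ⟨e ▸ hmemO k hk, ?_⟩
        have := hstep _ (e ▸ hmemO k hk) _ (hβX k hk)
        rwa [hshift k hk, e] at this
      · have h2 : β (β x0) ∈ O := e ▸ hmemO k hk
        refine ⟨?_, h2⟩
        have hk2 : β * (β * k * β⁻¹) * β⁻¹ ∈ X := hβX _ (hβX k hk)
        have := hstep _ h2 _ hk2
        simp only [Equiv.Perm.mul_apply, Equiv.Perm.inv_def, Equiv.symm_apply_apply, e] at this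
        rw [h3] at this
        exact this
    have hOeq : O = ({x0, β x0, β (β x0)} : Finset Ω) := by
      refine Set.Subset.antisymm ?_ ?_
      · rintro _ ⟨⟨l, hl⟩, rfl⟩
        simp only [Finset.coe_insert, Finset.coe_singleton, Set.mem_insert_iff, Set.mem_singleton_iff]
        exact hmove _ (hnotfix l hl)
      · intro y hy
        simp only [Finset.coe_insert, Finset.coe_singleton, Set.mem_insert_iff,
          Set.mem_singleton_iff] at hy
        rcases hy with e | e | e <;> rw [e]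
        · exact MulAction.mem_orbit_self x0
        · exact hall.1
        · exact hall.2
    have hc : Nat.card O = 3 := by
      rw [Nat.card_coe_set_eq, hOeq, Set.ncard_coe_finset, Finset.card_insert_of_notMem,
        Finset.card_pair (fun e => h0 (β.injective e).symm)]
      simp only [Finset.mem_insert, Finset.mem_singleton, not_or]
      exact ⟨Ne.symm h0, Ne.symm h1⟩
    have hdvd : Nat.card O ∣ Nat.card X := by
      rw [Nat.card_congr (MulAction.orbitEquivQuotientStabilizer X x0)]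
      exact Subgroup.card_quotient_dvd_card _
    rw [hc] at hdvd
    exact absurd hdvd (Nat.prime_three.coprime_iff_not_dvd.1 hX.symm)
  have hbinv : ∀ l ∈ X, β⁻¹ * l * β ∈ X := by
    intro l hl
    obtain ⟨n, hn⟩ : β⁻¹ ∈ Submonoid.powers β :=
      mem_powers_iff_mem_zpowers.2 (inv_mem (Subgroup.mem_zpowers β))
    have : ∀ n : ℕ, β ^ n * l * (β ^ n)⁻¹ ∈ X := by
      intro n
      induction n with
      | zero => simpa using hl
      | succ n ih => rw [pow_succ', mul_inv_rev, show β * β ^ n * l * ((β ^ n)⁻¹ * β⁻¹)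
          = β * (β ^ n * l * (β ^ n)⁻¹) * β⁻¹ by group]; exact hβX _ ih
    have h2 := this n
    rw [show β ^ n = β⁻¹ from hn, inv_inv] at h2
    exact h2
  have hk1 : ∀ k ∈ X, k (β x0) = β x0 := fun k hk => by
    have := congrArg β (hkey _ (hbinv k hk))
    simpa using this
  refine Equiv.ext fun y => ?_
  rw [Equiv.Perm.one_apply]
  by_cases hy : β y = y
  · exact hfix g hg y hy
  rcases hmove y hy with e | e | e <;> rw [e]
  · exact hkey g hg
  · exact hk1 g hg
  · have := congrArg β (hk1 _ (hbinv g hg))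
    simpa using this

end CfsgLib.FGS74.Cubic
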