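import Cfsg.Agent.FGS74.Cubic.Setup
import Cfsg.Agent.FGS74.Cubic.PermThree

/-!
# The weight lines of an abelian normal subgroup containing the four-group

The translates of the weight line of the four-group under `RB` form a basis of lines of the
commutator space, permuted by `RB`; the element `b` moves exactly three of them.
-/

set_option autoImplicit false
set_option linter.style.haveILetI false
set_option linter.unusedSectionVars false

namespace CfsgLib.FGS74.Cubic

open Module (finrank)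

variable {S : Type*} [Group S] [Finite S] {E : Type*} [AddCommGroup E] [Module (ZMod 3) E]
  [Finite E]
variable {σ : S →* Module.End (ZMod 3) E} {R : Subgroup S} {b u v : S}

namespace Data

variable (h : Data σ R b u v)

/-- An elementary abelian subgroup of `R` normal in `RB` containing `u`. -/
structure NormalElem (h : Data σ R b u v) (A : Subgroup S) : Prop where
  le : A ≤ R
  sq : ∀ a ∈ A, a * a = 1
  normR : ∀ r ∈ R, ∀ a ∈ A, r * a * r⁻¹ ∈ A
  normb : ∀ a ∈ A, b * a * b⁻¹ ∈ A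
  mem_u : u ∈ A

/-- The translates of the weight line. -/
def Lines : Type _ :=
  {L : Submodule (ZMod 3) E // ∃ g ∈ h.G, (h.four.W σ).map (σ g) = L}

instance : Finite h.Lines :=
  haveI : Finite (Submodule (ZMod 3) E) := Finite.of_injective _ SetLike.coe_injective
  inferInstanceAs (Finite {L : Submodule (ZMod 3) E // ∃ g ∈ h.G, (h.four.W σ).map (σ g) = L})

theorem map_map' (g k : S) (L : Submodule (ZMod 3) E) :
    (L.map (σ k)).map (σ g) = L.map (σ (g * k)) := by
  rw [← Submodule.map_comp, map_mul]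
  rfl

theorem map_one' (L : Submodule (ZMod 3) E) : L.map (σ (1 : S)) = L := by
  rw [map_one]
  exact Submodule.map_id L

/-- The action of `RB` on the lines. -/
def move : ↥h.G →* Equiv.Perm h.Lines where
  toFun g :=
    { toFun := fun L => ⟨L.1.map (σ (g : S)), by
        obtain ⟨k, hk, e⟩ := L.2
        exact ⟨g * k, mul_mem g.2 hk, by rw [← map_map', e]⟩⟩
      invFun := fun L => ⟨L.1.map (σ ((g : S)⁻¹)), by
        obtain ⟨k, hk, e⟩ := L.2
        exact ⟨(g : S)⁻¹ * k, mul_mem (inv_mem g.2) hk, by rw [← map_map', e]⟩⟩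
      left_inv := fun L => Subtype.ext (by
        show (L.1.map (σ (g : S))).map (σ ((g : S)⁻¹)) = L.1
        rw [map_map', inv_mul_cancel, map_one'])
      right_inv := fun L => Subtype.ext (by
        show (L.1.map (σ ((g : S)⁻¹))).map (σ (g : S)) = L.1
        rw [map_map', mul_inv_cancel, map_one']) }
  map_one' := Equiv.ext fun L => Subtype.ext (map_one' L.1)
  map_mul' g k := Equiv.ext fun L => Subtype.ext (map_map' (g : S) (k : S) L.1).symm

theorem move_coe (g : ↥h.G) (L : h.Lines) : (h.move g L).1 = L.1.map (σ (g : S)) := rfl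

/-- The weight line of the four-group. -/
def base : h.Lines := ⟨h.four.W σ, 1, one_mem _, map_one' _⟩

theorem move_trans (L L' : h.Lines) : ∃ g, h.move g L = L' := by
  obtain ⟨k, hk, e⟩ := L.2
  obtain ⟨k', hk', e'⟩ := L'.2
  refine ⟨⟨k', hk'⟩ * ⟨k, hk⟩⁻¹, Subtype.ext ?_⟩
  rw [move_coe, ← e]
  show ((h.four.W σ).map (σ k)).map (σ (k' * k⁻¹)) = L'.1
  rw [map_map', inv_mul_cancel_right, e']

theorem b_mem_G : b ∈ h.G := Subgroup.mem_sup_right (Subgroup.mem_zpowers b)

/-- `b` as an element of `RB`. -/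
def bG : ↥h.G := ⟨b, h.b_mem_G⟩

theorem finrank_line (L : h.Lines) : finrank (ZMod 3) ↥L.1 = 1 := by
  obtain ⟨g, _, e⟩ := L.2
  have h1 : finrank (ZMod 3) ↥(h.four.W σ) = 1 :=
    le_antisymm (h.four.finrank_W σ h.rank) (Submodule.one_le_finrank_iff.2 h.W_ne)
  rw [← e]
  refine le_antisymm ((Submodule.finrank_map_le _ _).trans h1.le) (Submodule.one_le_finrank_iff.2 ?_)
  obtain ⟨y, hy, hy0⟩ := (Submodule.ne_bot_iff _).1 h.W_ne
  exact (Submodule.ne_bot_iff _).2 ⟨σ g y, ⟨y, hy, rfl⟩,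
    fun e0 => hy0 (apply_injective σ g (e0.trans (map_zero _).symm))⟩

theorem exists_vec (L : h.Lines) : ∃ e ∈ L.1, e ≠ 0 :=
  (Submodule.ne_bot_iff _).1 (Submodule.one_le_finrank_iff.1 (h.finrank_line L).ge)

/-- A chosen vector on a line. -/
noncomputable def vec (L : h.Lines) : E := (h.exists_vec L).choose

theorem vec_mem (L : h.Lines) : h.vec L ∈ L.1 := (h.exists_vec L).choose_spec.1

theorem vec_ne (L : h.Lines) : h.vec L ≠ 0 := (h.exists_vec L).choose_spec.2

theorem line_cases {L : h.Lines} {y : E} (hy : y ∈ L.1) (hy0 : y ≠ 0) :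
    y = h.vec L ∨ y = -(h.vec L) := by
  obtain ⟨c, hc⟩ := (finrank_eq_one_iff_of_nonzero' (⟨h.vec L, h.vec_mem L⟩ : L.1)
    (fun e => h.vec_ne L (congrArg Subtype.val e))).1 (h.finrank_line L) ⟨y, hy⟩
  have hc' : c • h.vec L = y := congrArg Subtype.val hc
  rcases smul_cases (hc'.symm ▸ hy0 : c • h.vec L ≠ 0) with e | e
  · exact Or.inl (hc'.symm.trans e)
  · exact Or.inr (hc'.symm.trans e)

theorem W_le : h.four.W σ ≤ commR σ R := by
  intro y hy
  obtain ⟨-, hy2⟩ := (h.four.mem_W σ).1 hy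
  have := sub_mem_commR (σ := σ) h.vR y
  rwa [hy2, show -y - y = -(y + y) by abel, add_self, neg_neg] at this

theorem line_le (L : h.Lines) : L.1 ≤ commR σ R := by
  obtain ⟨g, hg, e⟩ := L.2
  rw [← e]
  rintro _ ⟨y, hy, rfl⟩
  exact h.G_commR hg (h.W_le hy)

theorem sgn_exists (g : ↥h.G) (L : h.Lines) :
    σ (g : S) (h.vec L) = h.vec (h.move g L) ∨ σ (g : S) (h.vec L) = -h.vec (h.move g L) :=
  h.line_cases (L := h.move g L) ⟨_, h.vec_mem L, rfl⟩
    (fun e => h.vec_ne L (apply_injective σ (g : S) (e.trans (map_zero _).symm)))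

open Classical in
/-- The sign of `g` at a line. -/
noncomputable def sgn (g : ↥h.G) (L : h.Lines) : (ZMod 3)ˣ :=
  if σ (g : S) (h.vec L) = h.vec (h.move g L) then 1 else -1

theorem sgn_spec (g : ↥h.G) (L : h.Lines) :
    σ (g : S) (h.vec L) = ((h.sgn g L : ZMod 3)) • h.vec (h.move g L) := by
  unfold sgn
  split_ifs with e
  · rw [Units.val_one, one_smul, e]
  · rw [Units.val_neg, Units.val_one, neg_smul, one_smul]
    exact (h.sgn_exists g L).resolve_left e

theorem sgn_mul (g k : ↥h.G) (L : h.Lines) :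
    h.sgn (g * k) L = h.sgn g (h.move k L) * h.sgn k L := by
  refine Units.ext (smul_left_injective (ZMod 3) (h.vec_ne (h.move (g * k) L)) ?_)
  show (h.sgn (g * k) L : ZMod 3) • h.vec (h.move (g * k) L) = _
  rw [← sgn_spec, Subgroup.coe_mul, mul_apply, sgn_spec, map_smul, sgn_spec, smul_smul,
    Units.val_mul, mul_comm, map_mul, Equiv.Perm.mul_apply]

/-- The product of the signs. -/
noncomputable def signProd : ↥h.G →* (ZMod 3)ˣ :=
  letI := Fintype.ofFinite h.Lines
  MonoidHom.mk' (fun g => ∏ L, h.sgn g L) fun g k => by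
    show ∏ L, h.sgn (g * k) L = (∏ L, h.sgn g L) * ∏ L, h.sgn k L
    rw [Finset.prod_congr rfl (fun L _ => h.sgn_mul g k L), Finset.prod_mul_distrib,
      Equiv.prod_comp (h.move k) (fun L => h.sgn g L)]

/-- A homomorphism on `RB` killing `b` kills `R`. -/
theorem eq_one_of_hom {H : Type*} [Group H] (f : ↥h.G →* H) (hb : f h.bG = 1) {r : ↥h.G}
    (hr : (r : S) ∈ R) : f r = 1 := by
  have : R ≤ f.ker.map h.G.subtype :=
    h.b_mem_of_normalized ⟨h.bG, hb, rfl⟩ fun s hs x hx => by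
      obtain ⟨y, hy, rfl⟩ := hx
      exact ⟨⟨s, Subgroup.mem_sup_left hs⟩ * y * ⟨s, Subgroup.mem_sup_left hs⟩⁻¹,
        (f.normal_ker).conj_mem y hy _, rfl⟩
  obtain ⟨y, hy, hyr⟩ := this hr
  rw [← Subtype.ext hyr]
  exact hy

theorem signProd_eq_one {r : ↥h.G} (hr : (r : S) ∈ R) : h.signProd r = 1 := by
  refine h.eq_one_of_hom h.signProd ?_ hr
  have h1 : h.signProd h.bG ^ 3 = 1 := by
    rw [← map_pow, show h.bG ^ 3 = 1 from Subtype.ext h.b3, map_one]
  revert h1
  generalize h.signProd h.bG = d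
  revert d
  decide

variable {A : Subgroup S} (hA : NormalElem h A)
include hA

theorem mem_v : v ∈ A := h.four.bu ▸ hA.normb u hA.mem_u

theorem comm {a a' : S} (ha : a ∈ A) (ha' : a' ∈ A) : a * a' = a' * a := by
  calc a * a' = a * a' * ((a' * a) * (a' * a)) := by rw [hA.sq _ (mul_mem ha' ha), mul_one]
    _ = a * (a' * a') * a * (a' * a) := by group
    _ = a' * a := by rw [hA.sq a' ha', mul_one, hA.sq a ha, one_mul]

theorem G_norm {g : S} (hg : g ∈ h.G) {a : S} (ha : a ∈ A) : g * a * g⁻¹ ∈ A :=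
  (Subgroup.mem_normalizer_iff.1 ((h.G_le (H := Subgroup.normalizer (A : Set S))
    (Subgroup.mem_normalizer_fintype hA.normb)
    fun r hr => Subgroup.mem_normalizer_fintype (hA.normR r hr)) hg) a).1 ha

theorem eigen {a : S} (ha : a ∈ A) (L : h.Lines) {y : E} (hy : y ∈ L.1) :
    σ a y = y ∨ σ a y = -y := by
  obtain ⟨g, hg, e⟩ := L.2
  rw [← e] at hy
  obtain ⟨w, hw, rfl⟩ := hy
  set a' := g⁻¹ * a * g with ha'
  have ha'A : a' ∈ A := by simpa [ha'] using G_norm h hA (inv_mem hg) ha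
  have hw' : σ a' w ∈ h.four.W σ := by
    obtain ⟨h1, h2⟩ := (h.four.mem_W σ).1 hw
    rw [FourAct.mem_W, ← mul_apply σ u a', ← comm h hA ha'A hA.mem_u, mul_apply σ a' u, h1,
      ← mul_apply σ v a', ← comm h hA ha'A (mem_v h hA), mul_apply σ a' v, h2, map_neg]
    exact ⟨rfl, rfl⟩
  have key : σ a' w = w ∨ σ a' w = -w := by
    by_cases hw0 : w = 0
    · left; rw [hw0, map_zero]
    rcases h.line_cases (L := h.base) hw hw0 with e1 | e1 <;>
      rcases h.line_cases (L := h.base) hw' (fun e2 => hw0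
        (apply_injective σ a' (e2.trans (map_zero _).symm))) with e2 | e2
    · left; rw [e2, e1]
    · right; rw [e2, e1]
    · right; rw [e2, e1, neg_neg]
    · left; rw [e2, e1]
  have e3 : σ a (σ g w) = σ g (σ a' w) := by
    rw [← mul_apply, ← mul_apply, ha', show g * (g⁻¹ * a * g) = a * g by group]
  rcases key with e | e
  · left; rw [e3, e]
  · right; rw [e3, e, map_neg]

/-- Lines with the same character coincide. -/
theorem eq_of_char {L L' : h.Lines}
    (hsame : ∀ a ∈ A, (σ a (h.vec L) = h.vec L ↔ σ a (h.vec L') = h.vec L')) : L = L' := by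
  obtain ⟨g, hg, e⟩ := L.2
  obtain ⟨w, hw, hwe⟩ : h.vec L ∈ (h.four.W σ).map (σ g) := e.symm ▸ h.vec_mem L
  have hw0 : w ≠ 0 := fun e0 => h.vec_ne L (by rw [← hwe, e0, map_zero])
  obtain ⟨h1, h2⟩ := (h.four.mem_W σ).1 hw
  set a := g * u * g⁻¹
  set a' := g * v * g⁻¹
  have ha : a ∈ A := G_norm h hA hg hA.mem_u
  have ha' : a' ∈ A := G_norm h hA hg (mem_v h hA)
  have ea : σ a (h.vec L) = h.vec L := by
    rw [← hwe, ← mul_apply, inv_mul_cancel_right, mul_apply, h1]
  have ea' : ¬ σ a' (h.vec L) = h.vec L := by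
    rw [← hwe, ← mul_apply, inv_mul_cancel_right, mul_apply, h2, map_neg]
    exact fun e0 => hw0 (apply_injective σ g ((eq_zero_of_neg e0).trans (map_zero _).symm))
  have ea2 : σ a' (h.vec L') = -h.vec L' :=
    (eigen h hA ha' L' (h.vec_mem L')).resolve_left ((hsame a' ha').not.1 ea')
  have hW : σ g⁻¹ (h.vec L') ∈ h.four.W σ := by
    have e1 : u * g⁻¹ = g⁻¹ * a := by show u * g⁻¹ = g⁻¹ * (g * u * g⁻¹); group
    have e2 : v * g⁻¹ = g⁻¹ * a' := by show v * g⁻¹ = g⁻¹ * (g * v * g⁻¹); group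
    rw [FourAct.mem_W, ← mul_apply, ← mul_apply, e1, e2, mul_apply σ g⁻¹ a, (hsame a ha).1 ea,
      mul_apply σ g⁻¹ a', ea2, map_neg]
    exact ⟨rfl, rfl⟩
  have hmem : h.vec L' ∈ L.1 := e ▸ ⟨_, hW, apply_inv_apply σ g _⟩
  refine Subtype.ext (le_antisymm ?_ ?_)
  · have h1 : (ZMod 3) ∙ h.vec L' ≤ L.1 := (Submodule.span_singleton_le_iff_mem _ _).2 hmem
    have h2 : (ZMod 3) ∙ h.vec L' = L.1 := Submodule.eq_of_le_of_finrank_eq h1
      (by rw [h.finrank_line, finrank_span_singleton (h.vec_ne L')])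
    rw [← h2, Submodule.span_singleton_le_iff_mem]
    exact h.vec_mem L'
  · have h1 : (ZMod 3) ∙ h.vec L' ≤ L.1 := (Submodule.span_singleton_le_iff_mem _ _).2 hmem
    have h2 : (ZMod 3) ∙ h.vec L' = L'.1 := Submodule.eq_of_le_of_finrank_eq
      ((Submodule.span_singleton_le_iff_mem _ _).2 (h.vec_mem L'))
      (by rw [h.finrank_line, finrank_span_singleton (h.vec_ne L')])
    rwa [← h2]

theorem linearIndependent_vec : LinearIndependent (ZMod 3) h.vec := by
  classical
  refine linearIndependent_of_joint_eigen (fun a : A => σ (a : S)) h.vec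
    (fun a L => if σ (a : S) (h.vec L) = h.vec L then 1 else -1) h.vec_ne (fun a L => ?_) ?_
  · split_ifs with e
    · rw [one_smul, e]
    · rw [neg_smul, one_smul]
      exact (eigen h hA a.2 L (h.vec_mem L)).resolve_left e
  · intro L L' hne
    by_contra hall
    push Not at hall
    refine hne (eq_of_char h hA fun a ha => ?_)
    have := hall ⟨a, ha⟩
    constructor
    · intro e1; by_contra e2
      rw [if_pos e1, if_neg e2] at this
      exact absurd this (by decide)
    · intro e1; by_contra e2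
      rw [if_neg e2, if_pos e1] at this
      exact absurd this (by decide)

theorem span_vec : commR σ R ≤ Submodule.span (ZMod 3) (Set.range h.vec) := by
  set N := Submodule.span (ZMod 3) (Set.range h.vec) with hN
  have hG : ∀ g ∈ h.G, ∀ y ∈ N, σ g y ∈ N := by
    intro g hg y hy
    refine (show N ≤ N.comap (σ g) from Submodule.span_le.2 ?_) hy
    rintro _ ⟨L, rfl⟩
    rw [SetLike.mem_coe, Submodule.mem_comap, h.sgn_spec ⟨g, hg⟩ L]
    exact Submodule.smul_mem _ _ (Submodule.subset_span ⟨_, rfl⟩)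
  rcases h.irreducible (N := N) (Submodule.span_le.2 (by
      rintro _ ⟨L, rfl⟩; exact h.line_le L (h.vec_mem L)))
    (fun r hr => hG r (Subgroup.mem_sup_left hr)) (hG b h.b_mem_G) with e | e
  · exfalso
    have : h.vec h.base ∈ N := Submodule.subset_span ⟨_, rfl⟩
    rw [e, Submodule.mem_bot] at this
    exact h.vec_ne _ this
  · exact e.ge

theorem eq_of_vec {g k : S} (hg : g ∈ h.G) (hk : k ∈ h.G)
    (e : ∀ L, σ g (h.vec L) = σ k (h.vec L)) : g = k := by
  refine inv_mul_eq_one.1 (h.G_faith (mul_mem (inv_mem hg) hk) fun y hy => ?_)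
  refine (mem_fix σ).1 ((Submodule.span_le.2 ?_) (span_vec h hA hy))
  rintro _ ⟨L, rfl⟩
  rw [SetLike.mem_coe, mem_fix, mul_apply, ← e L, inv_apply_apply]

/-- `b` moves exactly three lines. -/
theorem moved (L : h.Lines) (hL : h.move h.bG L ≠ L) :
    L = h.base ∨ L = h.move h.bG h.base ∨ L = h.move h.bG (h.move h.bG h.base) := by
  classical
  by_contra hne
  push Not at hne
  set T : Set h.Lines :=
    {h.base, h.move h.bG h.base, h.move h.bG (h.move h.bG h.base), h.move h.bG L} with hT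
  have hLT : L ∉ T := by
    rintro (e | e | e | e)
    exacts [hne.1 e, hne.2.1 e, hne.2.2 e, hL e.symm]
  refine (linearIndependent_vec h hA).notMem_span_image hLT ?_
  have hmem : ∀ M ∈ T, M.1 ≤ Submodule.span (ZMod 3) (h.vec '' T) := by
    intro M hM y hy
    by_cases hy0 : y = 0
    · rw [hy0]; exact zero_mem _
    rcases h.line_cases hy hy0 with e | e <;> rw [e]
    · exact Submodule.subset_span ⟨M, hM, rfl⟩
    · exact neg_mem (Submodule.subset_span ⟨M, hM, rfl⟩)
  have e : h.vec L = σ b (h.vec L) - (σ b (h.vec L) - h.vec L) := by abel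
  rw [e]
  refine sub_mem (hmem (h.move h.bG L) (by simp [hT]) ⟨_, h.vec_mem L, rfl⟩) ?_
  refine (sup_le (sup_le (hmem h.base (by simp [hT]))
    (hmem (h.move h.bG h.base) (by simp [hT]))) ?_)
    (h.four.comm_b_le σ h.rank h.W_ne (sub_mem_comm σ b (h.vec L)))
  rintro _ ⟨y, hy, rfl⟩
  exact hmem (h.move h.bG (h.move h.bG h.base)) (by simp [hT])
    ⟨σ b y, ⟨y, hy, rfl⟩, rfl⟩

omit hA in
theorem base_moved : h.move h.bG h.base ≠ h.base ∧
    h.move h.bG (h.move h.bG h.base) ≠ h.base ∧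
    h.move h.bG (h.move h.bG (h.move h.bG h.base)) = h.base := by
  obtain ⟨y, hy, hy0⟩ := (Submodule.ne_bot_iff _).1 h.W_ne
  obtain ⟨h1, h2⟩ := (h.four.mem_W σ).1 hy
  refine ⟨fun e => ?_, fun e => ?_, ?_⟩
  · have : σ b y ∈ h.four.W σ := (congrArg Subtype.val e).le
      (show σ b y ∈ (h.four.W σ).map (σ b) from ⟨y, hy, rfl⟩)
    have hh := ((h.four.mem_W σ).1 this).1
    rw [(h.four.u_b σ hy).1] at hh
    exact hy0 (apply_injective σ b ((eq_zero_of_neg hh).trans (map_zero _).symm))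
  · have : σ b (σ b y) ∈ h.four.W σ := (congrArg Subtype.val e).le
      (show σ b (σ b y) ∈ ((h.four.W σ).map (σ b)).map (σ b) from ⟨_, ⟨y, hy, rfl⟩, rfl⟩)
    have hh := ((h.four.mem_W σ).1 this).1
    rw [(h.four.u_bb σ hy).1] at hh
    exact hy0 (apply_injective σ b (apply_injective σ b
      ((eq_zero_of_neg hh).trans (by rw [map_zero, map_zero]))))
  · rw [← Equiv.Perm.mul_apply, ← Equiv.Perm.mul_apply, ← map_mul, ← map_mul,
      show h.bG * h.bG * h.bG = 1 from Subtype.ext (by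
        show b * b * b = 1; rw [← pow_three', h.b3]), map_one, Equiv.Perm.one_apply]

theorem card_lines [Group.IsSolvable S] : Nat.card h.Lines = 3 ∨ Nat.card h.Lines = 4 := by
  obtain ⟨h0, h1, h3⟩ := h.base_moved
  haveI : Group.IsSolvable h.move.range :=
    Group.isSolvable_of_surjective (f := h.move.rangeRestrict) h.move.rangeRestrict_surjective
  refine card_three_or_four (H := h.move.range) ⟨h.bG, rfl⟩ (fun K hK hn => ?_)
    (fun x y => ?_) h0 h1 h3 (moved h hA)
  · rintro _ ⟨g, rfl⟩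
    have hR : R ≤ (K.comap h.move).map h.G.subtype :=
      h.b_mem_of_normalized ⟨h.bG, hK, rfl⟩ fun s hs x hx => by
        obtain ⟨y, hy, rfl⟩ := hx
        refine ⟨⟨s, Subgroup.mem_sup_left hs⟩ * y * ⟨s, Subgroup.mem_sup_left hs⟩⁻¹, ?_, rfl⟩
        show h.move _ ∈ K
        rw [map_mul, map_mul, map_inv]
        exact hn _ ⟨_, rfl⟩ _ hy
    obtain ⟨y, hy, hyg⟩ := h.G_le (H := (K.comap h.move).map h.G.subtype) ⟨h.bG, hK, rfl⟩ hR g.2
    rw [← Subtype.ext hyg]
    exact hy
  · obtain ⟨g, hg⟩ := h.move_trans x y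
    exact ⟨_, ⟨g, rfl⟩, hg⟩

end Data

end CfsgLib.FGS74.Cubic
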