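import Cfsg.Agent.FGS74.Cubic.Lines
import Cfsg.Agent.FGS74.Cubic.Eight
import Cfsg.Agent.FGS74.Cubic.Extra

/-!
# The monomial case
-/

set_option autoImplicit false
set_option linter.style.haveILetI false
set_option linter.unusedSectionVars false

namespace CfsgLib.FGS74.Cubic

open Module (finrank)

theorem unit_sq (a : (ZMod 3)ˣ) : a * a = 1 := by revert a; decide

variable {S : Type*} [Group S] [Finite S] {E : Type*} [AddCommGroup E] [Module (ZMod 3) E]
  [Finite E]
variable {σ : S →* Module.End (ZMod 3) E} {R : Subgroup S} {b u v : S}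

namespace Data

variable (h : Data σ R b u v)

/-- The action of `R` on the lines. -/
def moveR : ↥R →* Equiv.Perm h.Lines := h.move.comp (Subgroup.inclusion le_sup_left)

theorem moveR_apply {r : S} (hr : r ∈ R) :
    h.moveR ⟨r, hr⟩ = h.move ⟨r, Subgroup.mem_sup_left hr⟩ := rfl

/-- The elements of `R` fixing every line. -/
def diag : Subgroup S := h.moveR.ker.map R.subtype

theorem mem_diag {r : S} : r ∈ h.diag ↔ ∃ hr : r ∈ R, h.moveR ⟨r, hr⟩ = 1 := by
  constructor
  · rintro ⟨⟨x, hx⟩, hk, rfl⟩; exact ⟨hx, hk⟩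
  · rintro ⟨hr, hk⟩; exact ⟨⟨r, hr⟩, hk, rfl⟩

theorem card_diag : Nat.card h.diag = Nat.card h.moveR.ker :=
  Subgroup.card_map_of_injective R.subtype_injective

variable {A : Subgroup S} (hA : NormalElem h A)
include hA

theorem le_diag : A ≤ h.diag := by
  intro a ha
  refine (h.mem_diag).2 ⟨hA.le ha, Equiv.ext fun L => Subtype.ext ?_⟩
  rw [moveR_apply, move_coe, Equiv.Perm.one_apply]
  show L.1.map (σ a) = L.1
  refine le_antisymm ?_ fun y hy => ?_
  · rintro _ ⟨y, hy, rfl⟩
    rcases eigen h hA ha L hy with e | e <;> rw [e]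
    · exact hy
    · exact neg_mem hy
  · rcases eigen h hA ha L hy with e | e
    · exact ⟨y, hy, e⟩
    · exact ⟨-y, neg_mem hy, by rw [map_neg, e, neg_neg]⟩

theorem diag_sq {r : S} (hr : r ∈ h.diag) : r * r = 1 := by
  obtain ⟨hrR, hk⟩ := h.mem_diag.1 hr
  set g : ↥h.G := ⟨r, Subgroup.mem_sup_left hrR⟩
  refine eq_of_vec h hA (mul_mem g.2 g.2) (one_mem _) fun L => ?_
  have hk' : h.move g L = L := Equiv.congr_fun hk L
  rw [one_apply, mul_apply]
  show σ (g : S) (σ (g : S) (h.vec L)) = _
  rw [h.sgn_spec g L, hk', map_smul, h.sgn_spec g L, hk', smul_smul, ← Units.val_mul, unit_sq,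
    Units.val_one, one_smul]

theorem card_diag_le : Nat.card h.diag ≤ 2 ^ (Nat.card h.Lines - 1) := by
  classical
  letI := Fintype.ofFinite h.Lines
  rw [h.card_diag]
  let f : h.moveR.ker → ({L // L ≠ h.base} → (ZMod 3)ˣ) := fun r L =>
    h.sgn ⟨((r : R) : S), Subgroup.mem_sup_left (r : R).2⟩ L.1
  have hf : Function.Injective f := by
    intro r r' e
    set g : ↥h.G := ⟨((r : R) : S), Subgroup.mem_sup_left (r : R).2⟩ with hg
    set g' : ↥h.G := ⟨((r' : R) : S), Subgroup.mem_sup_left (r' : R).2⟩ with hg'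
    have hne : ∀ L, L ≠ h.base → h.sgn g L = h.sgn g' L := fun L hL => congrFun e ⟨L, hL⟩
    have hbase : h.sgn g h.base = h.sgn g' h.base := by
      have h1 : h.signProd g = h.signProd g' := by
        rw [h.signProd_eq_one (r : R).2, h.signProd_eq_one (r' : R).2]
      change ∏ L, h.sgn g L = ∏ L, h.sgn g' L at h1
      rw [← Finset.mul_prod_erase Finset.univ _ (Finset.mem_univ h.base),
        ← Finset.mul_prod_erase Finset.univ (fun L => h.sgn g' L) (Finset.mem_univ h.base),
        Finset.prod_congr rfl (fun L hL => hne L (Finset.mem_erase.1 hL).1)] at h1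
      exact mul_right_cancel h1
    have hall : ∀ L, h.sgn g L = h.sgn g' L := fun L =>
      if hL : L = h.base then hL ▸ hbase else hne L hL
    refine Subtype.ext (Subtype.ext (eq_of_vec h hA g.2 g'.2 fun L => ?_))
    have k1 : h.move g L = L := Equiv.congr_fun r.2 L
    have k2 : h.move g' L = L := Equiv.congr_fun r'.2 L
    rw [h.sgn_spec g L, h.sgn_spec g' L, hall, k1, k2]
  refine (Nat.card_le_card_of_injective f hf).trans (le_of_eq ?_)
  rw [Nat.card_fun, show Nat.card (ZMod 3)ˣ = 2 by rw [Nat.card_eq_fintype_card]; decide,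
    Nat.card_eq_fintype_card, Nat.card_eq_fintype_card, Fintype.card_subtype_compl,
    Fintype.card_subtype_eq]

theorem image_trivial (X : Subgroup R) (hXb : ∀ r ∈ X, (⟨b * r * b⁻¹, h.hbR r r.2⟩ : R) ∈ X)
    (hX : ∀ r ∈ X, ∀ L, h.move h.bG L = L → h.moveR r L = L) : X ≤ h.moveR.ker := by
  intro r hr
  obtain ⟨h0, h1, h3⟩ := h.base_moved
  refine eq_one_of_fix (X := X.map h.moveR) ?_ ?_ h0 h1 h3 (moved h hA) ?_
    (Subgroup.mem_map_of_mem _ hr)
  · exact h.cop.coprime_dvd_left ((Subgroup.card_map_dvd X h.moveR).trans X.card_subgroup_dvd_card)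
  · rintro _ ⟨x, hx, rfl⟩
    refine ⟨_, hXb x hx, ?_⟩
    show h.move _ = h.move h.bG * h.move _ * (h.move h.bG)⁻¹
    rw [← map_inv, ← map_mul, ← map_mul]
    rfl
  · rintro _ ⟨x, hx, rfl⟩ L hL
    exact hX x hx L hL

/-- The monomial case. -/
theorem mono_case [Group.IsSolvable S] :
    ((∀ r ∈ R, r * r = 1) ∧ Nat.card R = 4) ∨
    (Cfsg.IsExtraspecial 2 ↥R ∧ Nat.card R = 32 ∧
      ∃ z ∈ R, z * z = 1 ∧ z ≠ 1 ∧ z * b = b * z ∧ ∀ r ∈ R, z * r = r * z) := by
  classical
  haveI : Fact (Nat.Prime 2) := ⟨Nat.prime_two⟩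
  letI := Fintype.ofFinite h.Lines
  obtain ⟨h0, h1, h3⟩ := h.base_moved
  set β := h.move h.bG with hβ
  have hge : 4 ≤ Nat.card h.diag := by
    rw [← h.four.card_grp h.u1]
    exact Subgroup.card_le_of_le (h.grp_le (le_diag h hA hA.mem_u) (le_diag h hA (mem_v h hA)))
  have hthree : ({h.base, β h.base, β (β h.base)} : Finset h.Lines).card = 3 := by
    rw [Finset.card_insert_of_notMem, Finset.card_pair (fun e => h0 (β.injective e).symm)]
    simp only [Finset.mem_insert, Finset.mem_singleton, not_or]
    exact ⟨Ne.symm h0, Ne.symm h1⟩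
  rcases card_lines h hA with hm | hm
  · left
    have huniv : ({h.base, β h.base, β (β h.base)} : Finset h.Lines) = Finset.univ :=
      Finset.eq_univ_of_card _ (by rw [hthree, ← Nat.card_eq_fintype_card, hm])
    have hnofix : ∀ L, β L ≠ L := by
      intro L e
      have := huniv ▸ Finset.mem_univ L
      simp only [Finset.mem_insert, Finset.mem_singleton] at this
      rcases this with rfl | rfl | rfl
      · exact h0 e
      · exact h0 (β.injective e)
      · exact h0 (β.injective (β.injective e))
    have hker : (⊤ : Subgroup R) ≤ h.moveR.ker :=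
      image_trivial h hA ⊤ (fun _ _ => Subgroup.mem_top _)
        (fun r _ L hL => absurd hL (hnofix L))
    have hRD : R = h.diag := le_antisymm
      (fun r hr => h.mem_diag.2 ⟨hr, hker (Subgroup.mem_top _)⟩) (Subgroup.map_subtype_le _)
    refine ⟨fun r hr => diag_sq h hA (hRD ▸ hr), ?_⟩
    have hle := card_diag_le h hA
    rw [hm] at hle
    rw [hRD]
    omega
  right
  obtain ⟨Lf, hLf⟩ : ∃ L, L ∉ ({h.base, β h.base, β (β h.base)} : Finset h.Lines) := by
    by_contra hall
    push Not at hall
    have : Finset.univ ⊆ ({h.base, β h.base, β (β h.base)} : Finset h.Lines) := fun L _ => hall L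
    have hle := Finset.card_le_card this
    rw [hthree, Finset.card_univ, ← Nat.card_eq_fintype_card, hm] at hle
    omega
  have hfour : ({Lf, h.base, β h.base, β (β h.base)} : Finset h.Lines) = Finset.univ :=
    Finset.eq_univ_of_card _ (by
      rw [Finset.card_insert_of_notMem hLf, hthree, ← Nat.card_eq_fintype_card, hm])
  have hLfix : β Lf = Lf := by
    by_contra hne
    have := moved h hA Lf hne
    simp only [Finset.mem_insert, Finset.mem_singleton, not_or] at hLf
    tauto
  have honly : ∀ L, β L = L → L = Lf := by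
    intro L e
    have := hfour ▸ Finset.mem_univ L
    simp only [Finset.mem_insert, Finset.mem_singleton] at this
    rcases this with rfl | rfl | rfl | rfl
    · rfl
    · exact absurd e h0
    · exact absurd (β.injective e) h0
    · exact absurd (β.injective (β.injective e)) h0
  let bc : R → R := fun r => ⟨b * r * b⁻¹, h.hbR r r.2⟩
  have hbc : ∀ r : R, h.moveR (bc r) = β * h.moveR r * β⁻¹ := fun r => by
    show h.move _ = h.move h.bG * h.move _ * (h.move h.bG)⁻¹
    rw [← map_inv, ← map_mul, ← map_mul]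
    rfl
  have hβinv : β⁻¹ Lf = Lf := by
    rw [Equiv.Perm.inv_eq_iff_eq]; exact hLfix.symm
  have hbcLf : ∀ r : R, h.moveR (bc r) Lf = β (h.moveR r Lf) := fun r => by
    rw [hbc, Equiv.Perm.mul_apply, Equiv.Perm.mul_apply, hβinv]
  -- transitivity
  have hmoves : ∃ r : R, h.moveR r Lf ≠ Lf := by
    by_contra hall
    push Not at hall
    obtain ⟨g, hg⟩ := h.move_trans Lf h.base
    let K : Subgroup ↥h.G :=
      { carrier := {g | h.move g Lf = Lf}
        one_mem' := by simp
        mul_mem' := fun {a c} (ha : h.move a Lf = Lf) (hc : h.move c Lf = Lf) => by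
          show h.move (a * c) Lf = Lf
          rw [map_mul, Equiv.Perm.mul_apply, hc, ha]
        inv_mem' := fun {a} (ha : h.move a Lf = Lf) => by
          show h.move a⁻¹ Lf = Lf
          rw [map_inv, Equiv.Perm.inv_eq_iff_eq, ha] }
    obtain ⟨y, hy, hyg⟩ := h.G_le (H := K.map h.G.subtype) ⟨h.bG, hLfix, rfl⟩
      (fun r hr => ⟨⟨r, Subgroup.mem_sup_left hr⟩, hall ⟨r, hr⟩, rfl⟩) g.2
    rw [← Subtype.ext hyg] at hg
    exact hLf (by rw [show Lf = h.base from hy.symm.trans hg]; simp)
  have htrans : ∀ L, ∃ r : R, h.moveR r Lf = L := by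
    obtain ⟨r, hr⟩ := hmoves
    intro L
    have hL := hfour ▸ Finset.mem_univ L
    have hrL := hfour ▸ Finset.mem_univ (h.moveR r Lf)
    simp only [Finset.mem_insert, Finset.mem_singleton] at hL hrL
    obtain ⟨r0, hr0⟩ : ∃ r0 : R, h.moveR r0 Lf = h.base := by
      rcases hrL with e | e | e | e
      · exact absurd e hr
      · exact ⟨r, e⟩
      · exact ⟨bc (bc r), by rw [hbcLf, hbcLf, e, h3]⟩
      · exact ⟨bc r, by rw [hbcLf, e, h3]⟩
    rcases hL with rfl | rfl | rfl | rfl
    · exact ⟨1, by rw [map_one]; rfl⟩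
    · exact ⟨r0, hr0⟩
    · exact ⟨bc r0, by rw [hbcLf, hr0]⟩
    · exact ⟨bc (bc r0), by rw [hbcLf, hbcLf, hr0]⟩
  have hstab : ∀ r : R, h.moveR r Lf = Lf → h.moveR r = 1 := by
    let X : Subgroup R :=
      { carrier := {r | h.moveR r Lf = Lf}
        one_mem' := by simp
        mul_mem' := fun {a c} (ha : h.moveR a Lf = Lf) (hc : h.moveR c Lf = Lf) => by
          show h.moveR (a * c) Lf = Lf
          rw [map_mul, Equiv.Perm.mul_apply, hc, ha]
        inv_mem' := fun {a} (ha : h.moveR a Lf = Lf) => by
          show h.moveR a⁻¹ Lf = Lf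
          rw [map_inv, Equiv.Perm.inv_eq_iff_eq, ha] }
    intro r hr
    exact image_trivial h hA X (fun x hx => by
      show h.moveR (bc x) Lf = Lf
      rw [hbcLf, show h.moveR x Lf = Lf from hx, hLfix])
      (fun x hx L hL => by rw [honly L hL]; exact hx) (show r ∈ X from hr)
  have hindex : h.moveR.ker.index = 4 := by
    rw [Subgroup.index_ker, ← hm]
    refine Nat.card_eq_of_bijective (fun p : h.moveR.range => (p : Equiv.Perm h.Lines) Lf) ⟨?_, ?_⟩
    · rintro ⟨_, r, rfl⟩ ⟨_, r', rfl⟩ e
      refine Subtype.ext ?_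
      have : h.moveR (r⁻¹ * r') Lf = Lf := by
        rw [map_mul, Equiv.Perm.mul_apply, map_inv, Equiv.Perm.inv_eq_iff_eq]
        exact e.symm
      have := hstab _ this
      rw [map_mul, map_inv, inv_mul_eq_one] at this
      exact this
    · intro L
      obtain ⟨r, hr⟩ := htrans L
      exact ⟨⟨_, r, rfl⟩, hr⟩
  have hcardR : Nat.card R = 4 * Nat.card h.diag := by
    rw [h.card_diag, ← h.moveR.ker.card_mul_index, hindex, mul_comm]
  have hR2 : IsPGroup 2 R := by
    have hD : IsPGroup 2 h.diag := fun d => ⟨1, Subtype.ext (by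
      rw [pow_one, Subgroup.coe_pow, pow_two]; exact diag_sq h hA d.2)⟩
    obtain ⟨k, hk⟩ := IsPGroup.iff_card.1 hD
    exact IsPGroup.of_card (n := k + 2) (by rw [hcardR, hk, pow_add]; ring)
  -- central elements
  have hcentral : ∀ z ∈ R, (∀ r ∈ R, z * r = r * z) → z ≠ 1 →
      (∀ y ∈ commR σ R, σ z y = -y) ∧ z * b = b * z ∧ z * z = 1 ∧ z ∈ h.diag := by
    intro z hz hzc hz1
    set g : ↥h.G := ⟨z, Subgroup.mem_sup_left hz⟩
    have hline : ∀ L, h.move g L = L := by
      intro L
      refine eq_of_char h hA fun a ha => ?_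
      have e : σ a (h.vec (h.move g L)) = h.vec (h.move g L) ↔ σ a (h.vec L) = h.vec L := by
        rcases h.sgn_exists g L with e | e
        all_goals (
          have e' : σ a (σ z (h.vec L)) = σ z (σ a (h.vec L)) := by
            rw [← mul_apply, ← mul_apply, hzc a (hA.le ha)]
          constructor
          · intro h1
            apply apply_injective σ z
            rw [← e']
            change σ z (h.vec L) = _ at e
            rw [e]
            first | exact h1 | rw [map_neg, h1]
          · intro h1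
            rw [h1] at e'
            change σ z (h.vec L) = _ at e
            rw [e] at e'
            first | exact e' | (rw [map_neg, neg_inj] at e'; exact e'))
      exact e
    have hdiag : z ∈ h.diag := h.mem_diag.2 ⟨hz, Equiv.ext hline⟩
    have hconst : ∀ L, h.sgn g L = h.sgn g Lf := by
      intro L
      obtain ⟨r, hr⟩ := htrans L
      set k : ↥h.G := ⟨(r : S), Subgroup.mem_sup_left r.2⟩
      have e : g * k = k * g := Subtype.ext (hzc r r.2)
      have h2 := h.sgn_mul g k Lf
      rw [e, h.sgn_mul k g Lf, hline Lf, show h.move k Lf = L from hr, mul_comm] at h2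
      exact (mul_right_cancel h2).symm
    have hneg : ∀ y ∈ commR σ R, σ z y = -y := by
      have hc : ∀ d : (ZMod 3)ˣ, d = 1 ∨ d = -1 := by decide
      rcases hc (h.sgn g Lf) with hs | hs
      · exfalso
        apply hz1
        refine eq_of_vec h hA g.2 (one_mem _) fun L => ?_
        rw [h.sgn_spec g L, hconst, hs, hline, Units.val_one, one_smul, one_apply]
      · intro y hy
        have hle : Submodule.span (ZMod 3) (Set.range h.vec) ≤ LinearMap.ker (σ z + 1) := by
          rw [Submodule.span_le]
          rintro _ ⟨L, rfl⟩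
          rw [SetLike.mem_coe, LinearMap.mem_ker, LinearMap.add_apply, Module.End.one_apply]
          show σ (g : S) _ + _ = 0
          rw [h.sgn_spec g L, hconst, hs, hline, Units.val_neg, Units.val_one, neg_smul, one_smul,
            neg_add_cancel]
        have := hle (span_vec h hA hy)
        rw [LinearMap.mem_ker, LinearMap.add_apply, Module.End.one_apply] at this
        exact eq_neg_of_add_eq_zero_left this
    refine ⟨hneg, ?_, diag_sq h hA hdiag, hdiag⟩
    refine eq_of_vec h hA (mul_mem g.2 h.b_mem_G) (mul_mem h.b_mem_G g.2) fun L => ?_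
    rw [mul_apply, mul_apply, hneg _ (h.b_commR (h.line_le L (h.vec_mem L))),
      hneg _ (h.line_le L (h.vec_mem L)), map_neg]
  haveI : Nontrivial R := R.nontrivial_iff_ne_bot.2 (fun e => h.u1 (by
    have := h.uR; rwa [e, Subgroup.mem_bot] at this))
  haveI := hR2.center_nontrivial
  obtain ⟨⟨⟨z, hzR⟩, hzc'⟩, hzne⟩ := exists_ne (1 : Subgroup.center R)
  have hzc : ∀ r ∈ R, z * r = r * z := fun r hr =>
    (congrArg Subtype.val (Subgroup.mem_center_iff.1 hzc' ⟨r, hr⟩)).symm
  have hz1 : z ≠ 1 := fun e => hzne (Subtype.ext (Subtype.ext e))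
  obtain ⟨hzn, hzb, hz2, hzD⟩ := hcentral z hzR hzc hz1
  obtain ⟨A8, hA8R, hA8c, hA8sq, hA8min⟩ := h.exists_eight hzR hz2 hz1 hzb hzc
  have hD8 : Nat.card h.diag = 8 := by
    have hle := card_diag_le h hA
    rw [hm] at hle
    have := Subgroup.card_le_of_le
      (hA8min h.diag (le_diag h hA hA.mem_u) (le_diag h hA (mem_v h hA)) hzD)
    omega
  have hR32 : Nat.card R = 32 := by rw [hcardR, hD8]
  refine ⟨?_, hR32, z, hzR, hz2, hz1, hzb, hzc⟩
  refine isExtraspecial_of hR2 hzR hz2 hz1 hzc ?_ ?_ ?_
  · intro x hx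
    set r : R := ⟨x, hx⟩
    by_cases hr : h.moveR r = 1
    · exact Or.inl (diag_sq h hA (h.mem_diag.2 ⟨hx, hr⟩))
    have hp2 : h.moveR (r * r) = 1 := by
      by_contra hne
      have hq : h.moveR (r * r) Lf ≠ Lf := fun e => hne (hstab _ e)
      have hrne : h.moveR r Lf ≠ Lf := fun e => hr (hstab _ e)
      have hfour4 : h.moveR (r * r) * h.moveR (r * r) = 1 := by
        have := Subgroup.pow_index_mem h.moveR.ker r
        rw [hindex, MonoidHom.mem_ker, pow_succ, pow_three, ← mul_assoc r r, mul_assoc (r * r) r r,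
          map_mul] at this
        exact this
      have hq4 := hfour ▸ Finset.mem_univ (h.moveR (r * r) Lf)
      have hr4 := hfour ▸ Finset.mem_univ (h.moveR r Lf)
      simp only [Finset.mem_insert, Finset.mem_singleton] at hq4 hr4
      have hsame : ∀ y : R, h.moveR y Lf = h.moveR (r * r) Lf → h.moveR y = h.moveR (r * r) := by
        intro y e
        have : h.moveR (y⁻¹ * (r * r)) = 1 := hstab _ (by
          rw [map_mul, Equiv.Perm.mul_apply, map_inv, Equiv.Perm.inv_eq_iff_eq]
          exact e.symm)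
        rwa [map_mul, map_inv, inv_mul_eq_one] at this
      have hβ3 : ∀ M, β (β (β M)) = M := fun M => by
        rw [hβ, ← Equiv.Perm.mul_apply, ← Equiv.Perm.mul_apply, ← map_mul, ← map_mul,
          show h.bG * h.bG * h.bG = 1 from Subtype.ext (by
            show b * b * b = 1; rw [← pow_three', h.b3]), map_one, Equiv.Perm.one_apply]
      have hcases : h.moveR r Lf = h.moveR (r * r) Lf ∨
          h.moveR (bc r) Lf = h.moveR (r * r) Lf ∨ h.moveR (bc (bc r)) Lf = h.moveR (r * r) Lf := by
        rw [hbcLf, hbcLf, hbcLf]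
        rcases hq4 with e | e | e | e
        · exact absurd e hq
        all_goals (rcases hr4 with e' | e' | e' | e'
                   · exact absurd e' hrne
                   all_goals (rw [e, e']; simp [h3]))
      apply hne
      rcases hcases with e | e | e
      · have e1 := hsame r e
        rw [map_mul] at e1
        have e2 : h.moveR r = 1 := right_eq_mul.1 e1 |>.symm ▸ rfl
        rw [map_mul, e2, mul_one]
      · have e1 := hsame _ e
        rw [hbc] at e1
        have e2 : β * h.moveR (r * r) * β⁻¹ = 1 :=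
          calc β * h.moveR (r * r) * β⁻¹
              = (β * h.moveR r * β⁻¹) * (β * h.moveR r * β⁻¹) := by rw [map_mul]; group
            _ = 1 := by rw [e1, hfour4]
        simpa using e2
      · have e1 := hsame _ e
        rw [hbc, hbc] at e1
        have e2 : β * (β * h.moveR (r * r) * β⁻¹) * β⁻¹ = 1 :=
          calc β * (β * h.moveR (r * r) * β⁻¹) * β⁻¹
              = (β * (β * h.moveR r * β⁻¹) * β⁻¹) * (β * (β * h.moveR r * β⁻¹) * β⁻¹) := by
                rw [map_mul]; group
            _ = 1 := by rw [e1, hfour4]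
        simpa using e2
    set g : ↥h.G := ⟨x, Subgroup.mem_sup_left hx⟩
    set p := h.move g
    have hpp : ∀ L, p (p L) = L := fun L => by
      have := Equiv.congr_fun hp2 L
      rwa [map_mul] at this
    have hfree : ∀ L, p L ≠ L := by
      intro L e
      obtain ⟨s, hs⟩ := htrans L
      apply hr
      have h5 : h.moveR (s⁻¹ * r * s) = 1 := hstab _ (by
        rw [map_mul, map_mul, Equiv.Perm.mul_apply, Equiv.Perm.mul_apply, hs, map_inv,
          Equiv.Perm.inv_eq_iff_eq, hs]
        exact e)
      rw [map_mul, map_mul, map_inv] at h5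
      simpa [mul_assoc, inv_mul_eq_one] using h5
    have hsig : ∀ L, h.sgn (g * g) L = h.sgn (g * g) Lf := by
      intro L
      have hh : ∀ M, h.sgn (g * g) M = h.sgn g (p M) * h.sgn g M := fun M => h.sgn_mul g g M
      by_cases e1 : L = Lf
      · rw [e1]
      by_cases e2 : L = p Lf
      · rw [hh, hh, e2, hpp, mul_comm]
      have hne1 : p L ≠ Lf := fun e => e2 (by rw [← e, hpp])
      have hne2 : p L ≠ p Lf := fun e => e1 (p.injective e)
      have hu4 : ({Lf, p Lf, L, p L} : Finset h.Lines) = Finset.univ := by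
        refine Finset.eq_univ_of_card _ ?_
        rw [Finset.card_insert_of_notMem, Finset.card_insert_of_notMem,
          Finset.card_pair (Ne.symm (hfree L)), ← Nat.card_eq_fintype_card, hm]
        · simp only [Finset.mem_insert, Finset.mem_singleton, not_or]
          exact ⟨Ne.symm e2, Ne.symm hne2⟩
        · simp only [Finset.mem_insert, Finset.mem_singleton, not_or]
          exact ⟨Ne.symm (hfree Lf), Ne.symm e1, Ne.symm hne1⟩
      have hprod : h.signProd g = 1 := h.signProd_eq_one hx
      change ∏ M, h.sgn g M = 1 at hprod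
      rw [← hu4, Finset.prod_insert, Finset.prod_insert,
        Finset.prod_pair (Ne.symm (hfree L))] at hprod
      · rw [hh, hh]
        have key : ∀ a c d f : (ZMod 3)ˣ, a * (c * (d * f)) = 1 → f * d = c * a := by decide
        exact key _ _ _ _ hprod
      · simp only [Finset.mem_insert, Finset.mem_singleton, not_or]
        exact ⟨Ne.symm e2, Ne.symm hne2⟩
      · simp only [Finset.mem_insert, Finset.mem_singleton, not_or]
        exact ⟨Ne.symm (hfree Lf), Ne.symm e1, Ne.symm hne1⟩
    have hc : ∀ d : (ZMod 3)ˣ, d = 1 ∨ d = -1 := by decide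
    have hmove : ∀ L, h.move (g * g) L = L := fun L => by
      rw [map_mul, Equiv.Perm.mul_apply]; exact hpp L
    rcases hc (h.sgn (g * g) Lf) with hs | hs
    · left
      refine eq_of_vec h hA (g * g).2 (one_mem _) fun L => ?_
      show σ ((g * g : ↥h.G) : S) (h.vec L) = _
      rw [h.sgn_spec (g * g) L, hsig, hs, hmove, Units.val_one, one_smul, one_apply]
    · right
      refine eq_of_vec h hA (g * g).2 (Subgroup.mem_sup_left hzR) fun L => ?_
      show σ ((g * g : ↥h.G) : S) (h.vec L) = _
      rw [h.sgn_spec (g * g) L, hsig, hs, hmove, Units.val_neg, Units.val_one, neg_smul, one_smul,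
        hzn _ (h.line_le L (h.vec_mem L))]
  · intro x hx hxc
    by_cases hx1 : x = 1
    · exact Or.inl hx1
    · exact Or.inr (h.neg_unique hx hzR (hcentral x hx hxc hx1).1 hzn)
  · by_contra hall
    push Not at hall
    have hcen : ∀ x ∈ R, x ≠ 1 → x ∈ h.diag := fun x hx hx1 =>
      (hcentral x hx (hall x hx) hx1).2.2.2
    have hle : R ≤ h.diag := fun x hx => by
      by_cases hx1 : x = 1
      · rw [hx1]; exact one_mem _
      · exact hcen x hx hx1
    have := Subgroup.card_le_of_le hle
    omega

end Data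

end CfsgLib.FGS74.Cubic
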