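import Cfsg.Agent.PLocal.Constraint
import Cfsg.Agent.Coprime.Action
import Cfsg.Agent.FGS74.Cubic.ExtraOrder
import Cfsg.Agent.FGS74.Cubic.Mono

/-!
# A solvable group on a space over three elements with a cubic element of order three
-/

set_option autoImplicit false
set_option linter.style.haveILetI false
set_option linter.unusedSectionVars false

namespace CfsgLib.FGS74.Cubic

open Module (finrank)
open Subgroup (zpowers)

variable {S : Type*} [Group S] [Finite S]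

/-- The four-group of a commutator of `b` with an element of an elementary abelian group. -/
theorem fourAct_of_comm {A : Subgroup S} (hsq : ∀ a ∈ A, a * a = 1) {b : S} (hb3 : b ^ 3 = 1)
    (hbn : ∀ a ∈ A, b * a * b⁻¹ ∈ A) {a : S} (ha : a ∈ A) (hab : a * b ≠ b * a) :
    FourAct b (a * (b * a * b⁻¹)) (b * (a * (b * a * b⁻¹)) * b⁻¹) ∧
      a * (b * a * b⁻¹) ≠ 1 := by
  set a1 := b * a * b⁻¹ with ha1
  set c := a * a1 with hc
  have h1 : a1 ∈ A := hbn a ha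
  set a2 := b * a1 * b⁻¹ with ha2
  have h2 : a2 ∈ A := hbn a1 h1
  have e3 : b * a2 * b⁻¹ = a := by
    calc b * a2 * b⁻¹ = b ^ 3 * a * (b ^ 3)⁻¹ := by rw [ha2, ha1, pow_three']; group
      _ = a := by rw [hb3]; group
  have e1 : b * c * b⁻¹ = a1 * a2 := by rw [hc, ha2, ha1]; group
  have e2 : b * (a1 * a2) * b⁻¹ = a2 * a := by
    calc b * (a1 * a2) * b⁻¹ = (b * a1 * b⁻¹) * (b * a2 * b⁻¹) := by group
      _ = a2 * a := by rw [e3]
  refine ⟨⟨hsq c (mul_mem ha h1), ?_, rfl, ?_⟩, ?_⟩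
  · exact comm_of_sq hsq (mul_mem ha h1) (hbn c (mul_mem ha h1))
  · rw [e1, e2, hc, mul_assoc a a1, ← mul_assoc a1 a1, hsq a1 h1, one_mul]
    exact comm_of_sq hsq h2 ha
  · intro e
    apply hab
    have e4 : a1 = a := (inv_eq_of_mul_eq_one_right e).symm.trans
      (inv_eq_of_mul_eq_one_right (hsq a ha))
    rw [ha1, mul_inv_eq_iff_eq_mul] at e4
    exact e4.symm

variable {E : Type*} [AddCommGroup E] [Module (ZMod 3) E] [Finite E]

/-- The conclusion. -/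
theorem main [Group.IsSolvable S] (σ : S →* Module.End (ZMod 3) E) (hfaith : Function.Injective σ)
    (B : Subgroup S) (hB : Nat.card ↥B = 3) (b : S) (hb : zpowers b = B)
    (E₀ E₁ : Submodule (ZMod 3) E) (hE01' : E₀ ⊔ E₁ = ⊤)
    (hE1 : ∀ y ∈ E₁, σ b y = y) (hE0inv : ∀ y ∈ E₀, σ b y ∈ E₀) (hE0 : Nat.card ↥E₀ = 27)
    (hind : ∃ y ∈ E₀, σ b (σ b y - y) - (σ b y - y) ≠ 0)
    (Q : Subgroup S) (hQ : ∀ q ∈ Q, q * q = 1) (hQ4 : Nat.card ↥Q = 4)
    (hBQ : B ≤ Subgroup.normalizer (Q : Set S)) (hBQ' : ¬ B ≤ Subgroup.centralizer (Q : Set S))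
    (P : Sylow 3 S) (hBZ : (Subgroup.center ↥(P : Subgroup S)).map (P : Subgroup S).subtype = B) :
    let R := ⁅Cfsg.pPrimeCore 3 S, B⁆
    (((∀ r ∈ R, r * r = 1) ∧ Nat.card ↥R = 4) ∨
      (Cfsg.IsExtraspecial 2 ↥R ∧ Nat.card ↥R = 32 ∧
        ∃ A : Subgroup S, A ≤ R ∧ (∀ a ∈ A, a * a = 1) ∧ Nat.card ↥A = 8)) ∧
    ∃ F₀ F₁ : Submodule (ZMod 3) E, F₀ ⊓ F₁ = ⊥ ∧ F₀ ⊔ F₁ = ⊤ ∧
      (∀ r ∈ R, ∀ y ∈ F₁, σ r y = y) ∧ (∀ r ∈ R ⊔ B, ∀ y ∈ F₀, σ r y ∈ F₀) ∧
      (∀ r ∈ R ⊔ B, (∀ y ∈ F₀, σ r y = y) → r = 1) ∧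
      (∀ N : Submodule (ZMod 3) E, N ≤ F₀ → (∀ r ∈ R ⊔ B, ∀ y ∈ N, σ r y ∈ N) →
        N = ⊥ ∨ N = F₀) := by
  intro R
  haveI : Fact (Nat.Prime 3) := ⟨Nat.prime_three⟩
  set K := Cfsg.pPrimeCore 3 S with hK
  haveI hKn : K.Normal := Subgroup.sSup_normal _ fun N hN => hN.1
  have hbo : orderOf b = 3 := by rw [← Nat.card_zpowers, hb, hB]
  have hb3 : b ^ 3 = 1 := hbo ▸ pow_orderOf_eq_one b
  have hbB : b ∈ B := hb ▸ Subgroup.mem_zpowers b
  have hKc : (Nat.card K).Coprime 3 := CfsgLib.PLocal.coprime_card_pPrimeCore 3 S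
  have hbQ : ∀ q ∈ Q, b * q * b⁻¹ ∈ Q := fun q hq =>
    (Subgroup.mem_normalizer_iff.1 (hBQ hbB) q).1 hq
  obtain ⟨q0, hq0, hq0b⟩ : ∃ q ∈ Q, q * b ≠ b * q := by
    by_contra hall
    push Not at hall
    apply hBQ'
    rw [← hb, Subgroup.zpowers_le, Subgroup.mem_centralizer_iff]
    exact hall
  obtain ⟨hF, hu1⟩ := fourAct_of_comm hQ hb3 hbQ hq0 hq0b
  set u := q0 * (b * q0 * b⁻¹) with hu
  set v := b * u * b⁻¹ with hv
  have huQ : u ∈ Q := mul_mem hq0 (hbQ q0 hq0)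
  have hvQ : v ∈ Q := hbQ u huQ
  -- `Q ≤ K`
  have hbK : ∀ q ∈ Q, b * q * b⁻¹ * q⁻¹ ∈ K := by
    intro q hq
    set f := QuotientGroup.mk' K with hf
    haveI : (Cfsg.pCore 3 (S ⧸ K)).Normal := CfsgLib.Solvable.pCore_normal 3
    have hbO : f b ∈ Cfsg.pCore 3 (S ⧸ K) := by
      refine CfsgLib.PLocal.centralizer_pCore_le
        (CfsgLib.PLocal.isPSolvable_quotient CfsgLib.PLocal.isPSolvable_of_isSolvable _)
        (CfsgLib.PLocal.pPrimeCore_quotient_pPrimeCore_eq_bot 3 S) ?_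
      rw [Subgroup.mem_centralizer_iff]
      intro t ht
      obtain ⟨p, hp, rfl⟩ := CfsgLib.Solvable.pCore_le_sylow
        (P.mapSurjective (QuotientGroup.mk'_surjective K)) ht
      obtain ⟨⟨c, hc⟩, hcc, hcb⟩ : b ∈ (Subgroup.center ↥(P : Subgroup S)).map
          (P : Subgroup S).subtype := hBZ.symm ▸ hbB
      subst hcb
      rw [← map_mul, ← map_mul]
      exact congrArg f (congrArg Subtype.val (Subgroup.mem_center_iff.1 hcc ⟨p, hp⟩))
    have h1 : f (b * q * b⁻¹ * q⁻¹) ∈ Cfsg.pCore 3 (S ⧸ K) := by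
      have h2 := mul_mem hbO (Subgroup.Normal.conj_mem inferInstance _ (inv_mem hbO) (f q))
      rw [map_mul, map_mul, map_mul, map_inv, map_inv, mul_assoc, mul_assoc]
      rwa [← mul_assoc, ← mul_assoc] at h2 ⊢
    obtain ⟨k, hk⟩ := CfsgLib.Solvable.isPGroup_pCore (G := S ⧸ K) 3 ⟨_, h1⟩
    have hk' : f (b * q * b⁻¹ * q⁻¹) ^ 3 ^ k = 1 := congrArg Subtype.val hk
    have hd2 : f (b * q * b⁻¹ * q⁻¹) ^ 2 = 1 := by
      rw [← map_pow, pow_two, hQ _ (mul_mem (hbQ q hq) (inv_mem hq)), map_one]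
    have hd : f (b * q * b⁻¹ * q⁻¹) = 1 := by
      have := pow_gcd_eq_one.2 ⟨hd2, hk'⟩
      rwa [Nat.Coprime.gcd_eq_one ((Nat.coprime_primes Nat.prime_two Nat.prime_three).2
        (by norm_num) |>.pow_right k), pow_one] at this
    exact (QuotientGroup.eq_one_iff _).1 hd
  have huvK : u * v ∈ K := by
    have := hbK u huQ
    rw [← hv] at this
    have e : v * u⁻¹ = u * v := by
      rw [inv_eq_of_mul_eq_one_right hF.uu]; exact hF.comm.symm
    rwa [e] at this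
  have huK : u ∈ K := by
    have := hKn.conj_mem _ huvK b
    rwa [hF.mul_buv, mul_inv_cancel_right] at this
  have hvK : v ∈ K := hKn.conj_mem _ huK b
  have huR : u ∈ R := by
    have h1 := Subgroup.commutator_mem_commutator hvK hbB
    rw [commutatorElement_def] at h1
    have e : v * b * v⁻¹ * b⁻¹ = u := by
      calc v * b * v⁻¹ * b⁻¹ = v * (b * v * b⁻¹)⁻¹ := by group
        _ = v * (u * v)⁻¹ := by rw [hF.bv]
        _ = u := by rw [mul_inv_rev, inv_eq_of_mul_eq_one_right hF.vv,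
            inv_eq_of_mul_eq_one_right hF.uu, ← mul_assoc, hF.vv, one_mul]
    rwa [e] at h1
  have hBK : B ≤ Subgroup.normalizer (K : Set S) := by
    rw [Subgroup.normalizer_eq_top_iff.2 hKn]; exact le_top
  have hRK : R ≤ K := CfsgLib.Coprime.commutator_le_of_le_normalizer hBK
  have hbR : ∀ r ∈ R, b * r * b⁻¹ ∈ R := fun r hr =>
    (Subgroup.mem_normalizer_iff.1 (Subgroup.normalizer_commutator_ge_right K B hbB) r).1 hr
  have hgen : R ≤ Subgroup.closure {x | ∃ r ∈ R, r * b * r⁻¹ = x} := by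
    have hRR : ⁅R, B⁆ = R := CfsgLib.Coprime.commutator_commutator_eq hBK (by
      rw [hB]; exact hKc.symm)
    conv_lhs => rw [← hRR]
    rw [Subgroup.commutator_le]
    intro r hr a ha
    rw [← hb] at ha
    obtain ⟨i, rfl⟩ := Subgroup.mem_zpowers_iff.1 ha
    rw [commutatorElement_def, ← conj_zpow]
    refine mul_mem (zpow_mem (Subgroup.subset_closure
      (show r * b * r⁻¹ ∈ {x | ∃ r ∈ R, r * b * r⁻¹ = x} from ⟨r, hr, rfl⟩)) i)
      (inv_mem (zpow_mem ?_ i))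
    exact Subgroup.subset_closure (show b ∈ {x | ∃ r ∈ R, r * b * r⁻¹ = x} from ⟨1, one_mem R, by group⟩)
  have hcube : ∀ y : E, σ b (σ b (σ b y - y) - (σ b y - y)) - (σ b (σ b y - y) - (σ b y - y)) = 0 := by
    intro y
    have e : σ b (σ b (σ b y)) = y := by
      rw [← mul_apply, ← mul_apply, ← pow_three', hb3, one_apply]
    simp only [map_sub, e]
    have h3 := add_self (σ b (σ b y))
    have h4 := add_self (σ b y)
    calc _ = -(σ b (σ b y) + σ b (σ b y) + σ b (σ b y))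
          + (σ b y + σ b y + σ b y) := by abel
      _ = 0 := by rw [h3, h4, neg_add_cancel, neg_add_cancel, neg_zero, add_zero]
  have hrank : finrank (ZMod 3) ↥(comm σ b) ≤ 2 := by
    set D := E₀.map (σ b - 1) with hD
    have hle : comm σ b ≤ D := by
      intro z hz
      obtain ⟨y, rfl⟩ := (mem_comm σ).1 hz
      obtain ⟨y0, h0, y1, h1, rfl⟩ := Submodule.mem_sup.1
        (hE01' ▸ Submodule.mem_top : y ∈ E₀ ⊔ E₁)
      exact ⟨y0, h0, by simp [hE1 y1 h1]⟩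
    have hDle : D ≤ E₀ := by
      rintro _ ⟨y, hy, rfl⟩
      exact sub_mem (hE0inv y hy) hy
    have h3 : finrank (ZMod 3) ↥E₀ = 3 := by
      have := Module.natCard_eq_pow_finrank (K := ZMod 3) (V := ↥E₀)
      rw [hE0, Nat.card_zmod] at this
      exact (Nat.pow_right_injective (le_refl 2 |>.trans (by norm_num)) (this.symm.trans
        (by norm_num : (27 : ℕ) = 3 ^ 3)))
    have hne : D ≠ E₀ := by
      intro e
      have hall : ∀ y ∈ E₀, y = 0 := by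
        intro y hy
        rw [← e] at hy
        obtain ⟨y1, hy1, rfl⟩ := hy
        rw [SetLike.mem_coe, ← e] at hy1
        obtain ⟨y2, hy2, rfl⟩ := hy1
        rw [SetLike.mem_coe, ← e] at hy2
        obtain ⟨y3, -, rfl⟩ := hy2
        simpa using hcube y3
      have : E₀ = ⊥ := (Submodule.eq_bot_iff _).2 hall
      rw [this, finrank_bot] at h3
      omega
    have := Submodule.finrank_lt_finrank_of_lt (lt_of_le_of_ne hDle hne)
    have := Submodule.finrank_mono hle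
    omega
  have hcop : (Nat.card R).Coprime 3 := hKc.coprime_dvd_left (Subgroup.card_dvd_of_le hRK)
  haveI : Group.IsSolvable R := inferInstance
  have h : Data σ R b u v :=
    { faith := hfaith, solv := inferInstance, b3 := hb3, hbR := hbR, cop := hcop, gen := hgen
      four := hF, uR := huR, u1 := hu1, rank := hrank
      cubic := by obtain ⟨y, -, hy⟩ := hind; exact ⟨y, hy⟩ }
  have hRB : R ⊔ B = h.G := by rw [← hb]; rfl
  refine ⟨?_, commR σ R, fixR σ R, h.disjoint, h.codisjoint, fun r hr y hy => mem_fixR.1 hy r hr,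
    fun r hr y hy => h.G_commR (hRB ▸ hr) hy, fun r hr hfix => h.G_faith (hRB ▸ hr) hfix,
    fun N hN hinv => h.irreducible hN (fun r hr => hinv r (Subgroup.mem_sup_left hr))
      (hinv b (Subgroup.mem_sup_right hbB))⟩
  have hext : ∀ (_ : Cfsg.IsExtraspecial 2 ↥R) (_ : Nat.card R = 32)
      (_ : ∃ z ∈ R, z * z = 1 ∧ z ≠ 1 ∧ z * b = b * z ∧ ∀ r ∈ R, z * r = r * z),
      Cfsg.IsExtraspecial 2 ↥R ∧ Nat.card ↥R = 32 ∧
        ∃ A : Subgroup S, A ≤ R ∧ (∀ a ∈ A, a * a = 1) ∧ Nat.card ↥A = 8 := by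
    rintro he h32 ⟨z, hzR, hz2, hz1, hzb, hzc⟩
    obtain ⟨A, hAR, hA8, hAsq, -⟩ := h.exists_eight hzR hz2 hz1 hzb hzc
    exact ⟨he, h32, A, hAR, hAsq, hA8⟩
  by_cases hE : ∀ A : Subgroup S, A ≤ R → (∀ a ∈ A, ∀ a' ∈ A, a * a' = a' * a) →
      (∀ a ∈ A, a * a = 1) → (∀ r ∈ R, ∀ a ∈ A, r * a * r⁻¹ ∈ A) →
      (∀ a ∈ A, b * a * b⁻¹ ∈ A) → ∀ a ∈ A, a * b = b * a
  · obtain ⟨he, h32, hz⟩ := h.extraspecial_case hE
    exact Or.inr (hext he h32 hz)
  · push Not at hE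
    obtain ⟨A, hAR, -, hAsq, hAn, hAb, a, ha, hab⟩ := hE
    obtain ⟨hF', hc1⟩ := fourAct_of_comm hAsq hb3 hAb ha hab
    have hcA : a * (b * a * b⁻¹) ∈ A := mul_mem ha (hAb a ha)
    have h' : Data σ R b _ _ := { h with four := hF', uR := hAR hcA, u1 := hc1 }
    rcases h'.mono_case ⟨hAR, hAsq, hAn, hAb, hcA⟩ with hel | ⟨he, h32, hz⟩
    · exact Or.inl hel
    · exact Or.inr (hext he h32 hz)

end CfsgLib.FGS74.Cubic
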